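import Cfsg.Agent.H365.Zsig
import Cfsg.Agent.H50.HerDefs

/-!
# Hering's theorem: numerical elimination by the order of `S` (helper50)

`no_of_check` : for a number `n` (the order of a simple group `S`), `m` (a multiple of `|Aut S|`) a computation shows
that no prime `p` and `d ≥ 3` with a large prime divisor `r` satisfy `(p ^ d - 1) / (p ^ b - 1) ∣ m` and
`n ∣ |GL_d(p)|`.
-/

set_option autoImplicit false

namespace Cfsg.Agent.H50.Her

open Cfsg.Agent.H365.Zsig

/-! ### Divisors of `Φ_d(p)` -/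

/-- `Φ_d(p) (p ^ b - 1)` divides `p ^ d - 1`. -/
theorem Ph_mul_dvd {p d b : ℕ} (hp : 2 ≤ p) (hd : 0 < d) (hbd : b ∣ d) (hlt : b < d) :
    (p ^ b - 1) * Ph d p ∣ p ^ d - 1 := by
  have hprop : b ∈ d.properDivisors := Nat.mem_properDivisors.2 ⟨hbd, hlt⟩
  have h1 := Polynomial.X_pow_sub_one_mul_cyclotomic_dvd_X_pow_sub_one_of_dvd ℤ hprop
  have h2 := Polynomial.eval_dvd (x := (p : ℤ)) h1
  have h3 : ((p : ℤ) ^ b - 1) * (Ph d p : ℤ) ∣ (p : ℤ) ^ d - 1 := by
    simpa [Ph_cast (n := d) (q := p) (by omega)] using h2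
  have h4 : (((p ^ b - 1) * Ph d p : ℕ) : ℤ) ∣ ((p ^ d - 1 : ℕ) : ℤ) := by
    rw [Nat.cast_mul, Nat.cast_sub (Nat.one_le_pow _ _ (by omega)), Nat.cast_sub (Nat.one_le_pow _ _ (by omega))]
    push_cast
    exact h3
  exact_mod_cast h4

theorem Ph_dvd_of_num {p d b m : ℕ} (hp : 2 ≤ p) (hb : 0 < b) (hbd : b ∣ d) (hlt : b < d)
    (h : p ^ d - 1 ∣ (p ^ b - 1) * m) : Ph d p ∣ m := by
  have h1 := (Ph_mul_dvd hp (by omega) hbd hlt).trans h
  have h2 : 0 < p ^ b - 1 := by
    have := Nat.one_lt_pow hb.ne' (show 1 < p by omega)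
    omega
  exact Nat.dvd_of_mul_dvd_mul_left h2 h1

/-- A divisor `x` of `Φ_d(p)` none of whose prime divisors is `1` modulo `d` is at most `d`. -/
theorem le_of_dvd_Ph {p d x : ℕ} (hp : 2 ≤ p) (hd : 3 ≤ d) (hx : x ∣ Ph d p)
    (h : ∀ t, t.Prime → t ∣ x → t % d ≠ 1) : x ≤ d := by
  have hpos : 0 < Ph d p := by have := Ph_gt_one (n := d) (q := p) (by omega) hp; omega
  have hx0 : x ≠ 0 := by rintro rfl; rw [zero_dvd_iff] at hx; omega
  rcases eq_or_ne x 1 with h1 | h1
  · omega
  -- the structure of the prime divisors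
  have key : ∀ t, t.Prime → t ∣ x → ∃ k m : ℕ, d = t ^ (k + 1) * m ∧ ¬ t ∣ m ∧
      orderOf (p : ZMod t) = m ∧ m ∣ t - 1 ∧ 0 < m := by
    intro t ht htx
    rcases prime_dvd_Ph (by omega) hp ht (htx.trans hx) with h2 | h2
    · exfalso
      have hta : ¬ t ∣ p := by
        intro hta
        have := Fact.mk ht
        have h0 : (p : ZMod t) = 0 := (ZMod.natCast_eq_zero_iff p t).2 hta
        have h3 : (p : ZMod t) ^ d = 1 := by rw [← h2]; exact pow_orderOf_eq_one _
        rw [h0, zero_pow (by omega)] at h3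
        exact zero_ne_one h3
      have h3 := Cfsg.Agent.Lib.Zsigmondy.orderOf_dvd_pred ht hta
      rw [h2] at h3
      apply h t ht htx
      obtain ⟨c, hc⟩ := h3
      have := ht.one_lt
      have h4 : t = 1 + d * c := by omega
      rw [h4, Nat.add_mul_mod_self_left, Nat.mod_eq_of_lt (by omega)]
    · exact h2
  obtain ⟨P, hP, hPx⟩ := Nat.exists_prime_and_dvd h1
  obtain ⟨k, m, h2, h3, h4, h5, h6⟩ := key P hP hPx
  have huniq : ∀ t, t.Prime → t ∣ x → t = P := by
    intro t ht htx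
    obtain ⟨k', m', h2', h3', h4', h5', h6'⟩ := key t ht htx
    have hle : ∀ {a b k m : ℕ}, a.Prime → b.Prime → d = a ^ (k + 1) * m → m ∣ a - 1 → 0 < m → b ∣ d → b ≤ a := by
      intro a b k m ha hb e1 e2 e3 e4
      rw [e1] at e4
      rcases hb.dvd_mul.1 e4 with e | e
      · exact ((Nat.prime_dvd_prime_iff_eq hb ha).1 (hb.dvd_of_dvd_pow e)).le
      · have := Nat.le_of_dvd (by have := ha.two_le; omega) (e.trans e2)
        omega
    exact le_antisymm (hle hP ht h2 h5 h6 (by rw [h2']; exact Dvd.dvd.mul_right (dvd_pow_self t (Nat.succ_ne_zero _)) _))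
      (hle ht hP h2' h5' h6' (by rw [h2]; exact Dvd.dvd.mul_right (dvd_pow_self P (Nat.succ_ne_zero _)) _))
  have hsq : ¬ P ^ 2 ∣ x := fun h7 => sq_not_dvd hd hp hP h2 h3 h4 h5 h6 (h7.trans hx)
  -- `x = P`
  have hxP : x = P := by
    obtain ⟨y, hy⟩ := hPx
    rcases eq_or_ne y 1 with hy1 | hy1
    · rw [hy, hy1, mul_one]
    · exfalso
      obtain ⟨s, hs, hsy⟩ := Nat.exists_prime_and_dvd hy1
      have h8 := huniq s hs (hy ▸ Dvd.dvd.mul_left hsy P)
      subst h8
      exact hsq (hy ▸ by rw [pow_two]; exact Nat.mul_dvd_mul_left s hsy)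
  rw [hxP]
  refine Nat.le_of_dvd (by omega) ?_
  rw [h2]
  exact Dvd.dvd.mul_right (dvd_pow_self P (Nat.succ_ne_zero _)) _

/-! ### The computation -/

/-- the product of the prime powers of a list -/
def pp (fs : List (ℕ × ℕ)) : ℕ := (fs.map fun x => x.1 ^ x.2).prod

/-- the part of the primes `≡ 1 (d)` -/
def ppOne (d : ℕ) (fs : List (ℕ × ℕ)) : ℕ := pp (fs.filter fun x => x.1 % d == 1)

/-- the part of the other primes -/
def ppOther (d : ℕ) (fs : List (ℕ × ℕ)) : ℕ := pp (fs.filter fun x => !(x.1 % d == 1))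

theorem pp_cons (x : ℕ × ℕ) (fs : List (ℕ × ℕ)) : pp (x :: fs) = x.1 ^ x.2 * pp fs := by
  simp [pp]

theorem pp_split (d : ℕ) (fs : List (ℕ × ℕ)) : pp fs = ppOne d fs * ppOther d fs := by
  induction fs with
  | nil => simp [pp, ppOne, ppOther]
  | cons x fs ih =>
    rw [pp_cons, ih]
    unfold ppOne ppOther
    by_cases h : x.1 % d = 1
    · simp only [h, beq_self_eq_true, List.filter_cons_of_pos, Bool.not_true, Bool.false_eq_true,
        not_false_eq_true, List.filter_cons_of_neg, pp_cons]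
      ring
    · have h' : (x.1 % d == 1) = false := by simpa using h
      simp only [h', Bool.false_eq_true, not_false_eq_true, List.filter_cons_of_neg, Bool.not_false,
        List.filter_cons_of_pos, pp_cons]
      ring

theorem prime_dvd_pp {t : ℕ} (ht : t.Prime) {fs : List (ℕ × ℕ)} (hfs : ∀ x ∈ fs, x.1.Prime) (h : t ∣ pp fs) :
    ∃ x ∈ fs, x.1 = t := by
  induction fs with
  | nil => simp [pp] at h; exact absurd h ht.ne_one
  | cons x fs ih =>
    rw [pp_cons] at h
    rcases ht.dvd_mul.1 h with h1 | h1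
    · exact ⟨x, List.mem_cons_self, ((Nat.prime_dvd_prime_iff_eq ht (hfs x List.mem_cons_self)).1
        (ht.dvd_of_dvd_pow h1)).symm⟩
    · obtain ⟨y, hy, hy1⟩ := ih (fun y hy => hfs y (List.mem_cons_of_mem _ hy)) h1
      exact ⟨y, List.mem_cons_of_mem _ hy, hy1⟩

/-- `Φ_d(p) ≤ d · M₁` -/
theorem Ph_le {p d : ℕ} (hp : 2 ≤ p) (hd : 3 ≤ d) {fs : List (ℕ × ℕ)} (hfs : ∀ x ∈ fs, x.1.Prime)
    (h : Ph d p ∣ pp fs) : Ph d p ≤ d * ppOne d fs := by
  rw [pp_split d fs] at h
  obtain ⟨x, y, hx, hy, hxy⟩ := Nat.dvd_mul.1 h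
  have hpos : 0 < ppOne d fs := by
    unfold ppOne
    have : ∀ gs : List (ℕ × ℕ), (∀ x ∈ gs, x.1.Prime) → 0 < pp gs := by
      intro gs
      induction gs with
      | nil => intro _; simp [pp]
      | cons x gs ih =>
        intro hg
        rw [pp_cons]
        exact Nat.mul_pos (pow_pos (hg x List.mem_cons_self).pos _) (ih fun y hy => hg y (List.mem_cons_of_mem _ hy))
    exact this _ fun x hx => hfs x (List.mem_of_mem_filter hx)
  have h1 : y ≤ d := by
    refine le_of_dvd_Ph hp hd (Dvd.intro_left _ hxy) ?_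
    intro t ht hty hmod
    obtain ⟨z, hz, hzt⟩ := prime_dvd_pp ht (fun x hx => hfs x (List.mem_of_mem_filter hx)) (hty.trans hy)
    have h2 := (List.mem_filter.1 hz).2
    rw [hzt, hmod] at h2
    simp at h2
  rw [← hxy, mul_comm d]
  exact Nat.mul_le_mul (Nat.le_of_dvd hpos hx) h1

/-- the order of `GL_d(p)` -/
def glCard (p d : ℕ) : ℕ := ((List.range d).map fun i => p ^ d - p ^ i).prod

/-- a cheap compositeness test: `false` only if `p` is composite -/
def maybePrime (p : ℕ) : Bool :=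
  Nat.ble 2 p && [2, 3, 5, 7, 11, 13, 17, 19, 23, 29, 31, 37, 41, 43].all fun t => (Nat.ble p t) || !(Nat.beq (p % t) 0)

theorem maybePrime_of_prime {p : ℕ} (hp : p.Prime) : maybePrime p = true := by
  rw [maybePrime, Bool.and_eq_true, List.all_eq_true]
  refine ⟨Nat.ble_eq_true_of_le hp.two_le, ?_⟩
  intro t ht
  rw [Bool.or_eq_true]
  by_contra hcon
  rw [not_or] at hcon
  obtain ⟨h1, h2⟩ := hcon
  have h1' : ¬ p ≤ t := fun h => h1 (Nat.ble_eq_true_of_le h)
  have h2' : p % t = 0 := by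
    by_contra h0
    apply h2
    have : Nat.beq (p % t) 0 = false := by
      rw [← Bool.not_eq_true]
      exact fun h => h0 (Nat.eq_of_beq_eq_true h)
    rw [this]
    rfl
  have h3 := (Nat.dvd_prime hp).1 (Nat.dvd_of_mod_eq_zero h2')
  have h4 : t ≠ 1 := by
    rintro rfl
    simp at ht
  omega

/-- the test for one `p`, `d`: `true` if `(p, d)` is excluded -/
def testP (m n d p : ℕ) : Bool :=
  !(maybePrime p) || ((List.range d).all fun b => (Nat.beq b 0) || !(Nat.beq (d % b) 0) ||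
    !(Nat.beq (((p ^ b - 1) * m) % (p ^ d - 1)) 0)) || !(Nat.beq (glCard p d % n) 0)

theorem testP_spec {m n d p b : ℕ} (h : testP m n d p = true) (hp : p.Prime) (hb : 0 < b) (hbd : b ∣ d) (hlt : b < d)
    (h1 : p ^ d - 1 ∣ (p ^ b - 1) * m) (h2 : n ∣ glCard p d) : False := by
  unfold testP at h
  rw [maybePrime_of_prime hp] at h
  have e2 : Nat.beq (glCard p d % n) 0 = true := by
    rw [Nat.mod_eq_zero_of_dvd h2]; rfl
  rw [e2] at h
  simp only [Bool.not_true, Bool.false_or, Bool.or_false] at h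
  rw [List.all_eq_true] at h
  have h3 := h b (List.mem_range.2 hlt)
  have e3 : Nat.beq b 0 = false := by
    rw [← Bool.not_eq_true]
    exact fun h => hb.ne' (Nat.eq_of_beq_eq_true h)
  have e4 : Nat.beq (d % b) 0 = true := by rw [Nat.mod_eq_zero_of_dvd hbd]; rfl
  have e5 : Nat.beq (((p ^ b - 1) * m) % (p ^ d - 1)) 0 = true := by rw [Nat.mod_eq_zero_of_dvd h1]; rfl
  rw [e3, e4, e5] at h3
  simp at h3

/-- all numbers below `B` satisfy `f` -/
def allBelow (f : ℕ → Bool) : ℕ → Bool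
  | 0 => true
  | k + 1 => f k && allBelow f k

theorem allBelow_spec {f : ℕ → Bool} : ∀ {B : ℕ}, allBelow f B = true → ∀ {k}, k < B → f k = true
  | 0, _, k, hk => absurd hk (Nat.not_lt_zero k)
  | B + 1, h, k, hk => by
    rw [allBelow, Bool.and_eq_true] at h
    rcases Nat.lt_succ_iff_lt_or_eq.1 hk with h1 | h1
    · exact allBelow_spec h.2 h1
    · rw [h1]; exact h.1

/-- the test for `d`, with a bound `B` for `p - 1` and exceptional values `ex` of `p` -/
def testD (m n : ℕ) (fs : List (ℕ × ℕ)) (ex : List (ℕ × ℕ)) (x : ℕ × ℕ) : Bool :=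
  Nat.ble (x.1 * ppOne x.1 fs + 1) (x.2 ^ (Nat.totient x.1)) &&
    allBelow (fun p => (ex.any fun y => Nat.beq y.1 p && Nat.beq y.2 x.1) || testP m n x.1 p) (x.2 + 2)

/-- the candidate dimensions -/
def candD (fs : List (ℕ × ℕ)) (ds : List ℕ) : Bool :=
  fs.all fun x => (List.range x.1).all fun d =>
    Nat.ble d 2 || !(Nat.beq ((x.1 - 1) % d) 0) ||
      (!(Nat.ble (2 * d + 1) x.1) && !(Nat.beq x.1 (d + 1) && Nat.ble 2 x.2)) || ds.any fun y => Nat.beq y d

/-- **The numerical elimination**, general form. `fs` : the factorisation of a multiple of `|Aut S|`; `xs` : the list of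
pairs `(d, B)`; `ex` : the list of the surviving pairs `(p, d)`. -/
theorem no_of_check' {m n : ℕ} {fs xs ex : List (ℕ × ℕ)} (hm : pp fs = m) (hfs : ∀ x ∈ fs, x.1.Prime)
    (hnd : (fs.map Prod.fst).Nodup)
    (h1 : candD fs (xs.map Prod.fst) = true)
    (h2 : ∀ x ∈ xs, x.1 * ppOne x.1 fs < x.2 ^ (Nat.totient x.1) ∧
      ∀ p, p.Prime → p < x.2 + 2 → n ∣ glCard p x.1 → (p, x.1) ∈ ex ∨ testP m n x.1 p = true)
    {p d b r R m' : ℕ} (hp : p.Prime) (hd : 3 ≤ d) (hL : Large p d r R) (hr : r ∣ n) (hnm : n ∣ m)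
    (hm' : m' ∣ m) (hb : 0 < b) (hbd : b ∣ d) (hlt : b < d)
    (h3 : p ^ d - 1 ∣ (p ^ b - 1) * m') (h4 : n ∣ glCard p d) : (p, d) ∈ ex := by
  subst hm
  replace h3 : p ^ d - 1 ∣ (p ^ b - 1) * pp fs := h3.trans (Nat.mul_dvd_mul_left _ hm')
  -- `r` is in the list
  obtain ⟨x, hx, hxr⟩ := prime_dvd_pp hL.prime hfs (hr.trans hnm)
  have hrp : ¬ r ∣ p := by
    intro hta
    have := Fact.mk hL.prime
    have h0 : (p : ZMod r) = 0 := (ZMod.natCast_eq_zero_iff p r).2 hta
    have h3 : (p : ZMod r) ^ d = 1 := by rw [← hL.ord]; exact pow_orderOf_eq_one _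
    rw [h0, zero_pow (by omega)] at h3
    exact zero_ne_one h3
  have hdr : d ∣ r - 1 := by
    have := Cfsg.Agent.Lib.Zsigmondy.orderOf_dvd_pred hL.prime hrp
    rwa [hL.ord] at this
  have hr2 := hL.prime.two_le
  have hdlt : d < r := by
    have := Nat.le_of_dvd (by omega) hdr
    omega
  -- `d` is in the list of the candidates
  have hmem : d ∈ xs.map Prod.fst := by
    rw [candD, List.all_eq_true] at h1
    have h5 := h1 x hx
    rw [List.all_eq_true] at h5
    have h6 := h5 d (List.mem_range.2 (hxr ▸ hdlt))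
    rw [hxr] at h6
    have e1 : Nat.ble d 2 = false := by
      rw [← Bool.not_eq_true, Nat.ble_eq]; omega
    have e2 : Nat.beq ((r - 1) % d) 0 = true := by rw [Nat.mod_eq_zero_of_dvd hdr]; rfl
    rw [e1, e2] at h6
    simp only [Bool.not_true, Bool.false_or, Bool.or_eq_true, Bool.and_eq_true, Bool.not_eq_true'] at h6
    rcases h6 with h6 | h6
    · exfalso
      obtain ⟨h7, h8⟩ := h6
      rcases hL.large with ⟨-, h9⟩ | ⟨h9, h10⟩
      · have : Nat.ble (2 * d + 1) r = true := Nat.ble_eq_true_of_le h9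
        rw [this] at h7
        exact absurd h7 (by simp)
      · -- `r ^ 2 ∣ m`
        have e3 : Nat.beq r (d + 1) = true := by rw [h10]; exact Nat.beq_refl _
        rw [e3, Bool.true_and] at h8
        have h11 : R ∣ pp fs := by
          have e4 := hL.dvd.trans h3
          have e5 : Nat.Coprime R (p ^ b - 1) := by
            rw [h9]
            apply Nat.Coprime.pow_left
            rw [Nat.Prime.coprime_iff_not_dvd hL.prime]
            exact hL.not_dvd hp.one_lt.le hb hlt
          exact e5.dvd_of_dvd_mul_left e4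
        rw [h9] at h11
        -- the exponent of `r` in the list
        have h12 : 2 ≤ x.2 := by
          obtain ⟨l1, l2, hl⟩ := List.append_of_mem hx
          have e6 : pp fs = x.1 ^ x.2 * pp (l1 ++ l2) := by
            rw [hl]
            simp only [pp, List.map_append, List.map_cons, List.prod_append, List.prod_cons]
            ring
          have e7 : ¬ r ∣ pp (l1 ++ l2) := by
            intro e8
            obtain ⟨y, hy, hyr⟩ := prime_dvd_pp hL.prime (fun z hz => hfs z (by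
              rw [hl]
              rcases List.mem_append.1 hz with h | h
              · exact List.mem_append_left _ h
              · exact List.mem_append_right _ (List.mem_cons_of_mem _ h))) e8
            rw [hl, List.map_append, List.map_cons] at hnd
            have e9 := (List.nodup_append.1 hnd).2.1
            rw [List.nodup_cons] at e9
            rcases List.mem_append.1 hy with h | h
            · have e10 := (List.nodup_append.1 hnd).2.2
              exact e10 y.1 (List.mem_map_of_mem h) x.1 List.mem_cons_self (by rw [hyr, hxr])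
            · exact e9.1 (by rw [hxr, ← hyr]; exact List.mem_map_of_mem h)
          rw [e6, hxr] at h11
          have e11 : r ^ 2 ∣ r ^ x.2 := by
            refine Nat.Coprime.dvd_of_dvd_mul_right ?_ h11
            exact Nat.Coprime.pow_left _ ((Nat.Prime.coprime_iff_not_dvd hL.prime).2 e7)
          exact (Nat.pow_dvd_pow_iff_le_right hL.prime.one_lt).1 e11
        have : Nat.ble 2 x.2 = true := Nat.ble_eq_true_of_le h12
        rw [this] at h8
        exact absurd h8 (by simp)
    · rw [List.any_eq_true] at h6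
      obtain ⟨y, hy, hyd⟩ := h6
      rw [← Nat.eq_of_beq_eq_true hyd]
      exact hy
  obtain ⟨y, hy, hyd⟩ := List.mem_map.1 hmem
  have h5 := h2 y hy
  rw [hyd] at h5
  -- the bound
  have h6 : Ph d p ∣ pp fs := Ph_dvd_of_num hp.two_le hb hbd hlt h3
  have h7 := Ph_le hp.two_le hd hfs h6
  have h8 : (p - 1) ^ d.totient ≤ Ph d p := Ph_lower hp.two_le
  have h9 : p - 1 < y.2 := by
    by_contra hcon
    push Not at hcon
    have := Nat.pow_le_pow_left hcon d.totient
    omega
  rcases h5.2 p hp (by omega) h4 with h10 | h10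
  · exact h10
  · exact (testP_spec h10 hp hb hbd hlt h3 h4).elim

theorem testD_spec {m n : ℕ} {fs ex : List (ℕ × ℕ)} {x : ℕ × ℕ} (h : testD m n fs ex x = true) :
    x.1 * ppOne x.1 fs < x.2 ^ (Nat.totient x.1) ∧
      ∀ p, p.Prime → p < x.2 + 2 → n ∣ glCard p x.1 → (p, x.1) ∈ ex ∨ testP m n x.1 p = true := by
  rw [testD, Bool.and_eq_true, Nat.ble_eq] at h
  refine ⟨by omega, fun p _ hp2 _ => ?_⟩
  have h10 := allBelow_spec h.2 hp2
  rw [Bool.or_eq_true] at h10
  rcases h10 with h10 | h10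
  · left
    rw [List.any_eq_true] at h10
    obtain ⟨z, hz, hz1⟩ := h10
    rw [Bool.and_eq_true] at hz1
    have : z = (p, x.1) := Prod.ext (Nat.eq_of_beq_eq_true hz1.1) (Nat.eq_of_beq_eq_true hz1.2)
    rw [← this]
    exact hz
  · exact Or.inr h10

/-- **The numerical elimination.** `fs` : the factorisation of `m`; `xs` : the list of pairs `(d, B)`; `ex` : the list
of the surviving pairs `(p, d)`. -/
theorem no_of_check {m n : ℕ} {fs xs ex : List (ℕ × ℕ)} (hm : pp fs = m) (hfs : ∀ x ∈ fs, x.1.Prime)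
    (hnd : (fs.map Prod.fst).Nodup)
    (h1 : candD fs (xs.map Prod.fst) = true) (h2 : xs.all (testD m n fs ex) = true)
    {p d b r R m' : ℕ} (hp : p.Prime) (hd : 3 ≤ d) (hL : Large p d r R) (hr : r ∣ n) (hnm : n ∣ m)
    (hm' : m' ∣ m) (hb : 0 < b) (hbd : b ∣ d) (hlt : b < d)
    (h3 : p ^ d - 1 ∣ (p ^ b - 1) * m') (h4 : n ∣ glCard p d) : (p, d) ∈ ex := by
  rw [List.all_eq_true] at h2
  exact no_of_check' hm hfs hnd h1 (fun x hx => testD_spec (h2 x hx)) hp hd hL hr hnm hm' hb hbd hlt h3 h4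

/-! ### A sieve for large bounds -/

/-- A prime divisor `t` of `|GL_d(p)|` is `p` or divides some `p ^ i - 1`, `1 ≤ i ≤ d`. -/
theorem exists_of_dvd_glCard {p d t : ℕ} (hp : p.Prime) (ht : t.Prime) (h : t ∣ glCard p d) :
    t = p ∨ ∃ i, 1 ≤ i ∧ i ≤ d ∧ t ∣ p ^ i - 1 := by
  rw [glCard, Prime.dvd_prod_iff ht.prime] at h
  obtain ⟨a, ha, hta⟩ := h
  obtain ⟨i, hi, rfl⟩ := List.mem_map.1 ha
  rw [List.mem_range] at hi
  have e1 : p ^ d - p ^ i = p ^ i * (p ^ (d - i) - 1) := by
    rw [Nat.mul_sub, mul_one, ← pow_add, show i + (d - i) = d by omega]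
  rw [e1] at hta
  rcases ht.dvd_mul.1 hta with h1 | h1
  · left
    exact (Nat.prime_dvd_prime_iff_eq ht hp).1 (ht.dvd_of_dvd_pow h1)
  · right
    exact ⟨d - i, by omega, by omega, h1⟩

/-- the test for a large bound: `p` runs over the residue classes `rs` modulo `M` and the list `ps` -/
def testS (m n d M K : ℕ) (rs ps : List ℕ) : Bool :=
  (ps.all fun p => testP m n d p) && allBelow (fun k => rs.all fun ρ => testP m n d (M * k + ρ)) K

theorem testS_spec {m n d M K : ℕ} {rs ps : List ℕ} (h : testS m n d M K rs ps = true) {p : ℕ}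
    (hp : p ∈ ps ∨ p % M ∈ rs) (hM : 0 < M) (hK : p < M * K) : testP m n d p = true := by
  rw [testS, Bool.and_eq_true, List.all_eq_true] at h
  rcases hp with hp | hp
  · exact h.1 p hp
  · have h1 := allBelow_spec h.2 (k := p / M) (Nat.div_lt_of_lt_mul hK)
    rw [List.all_eq_true] at h1
    have h2 := h1 _ hp
    rwa [Nat.div_add_mod] at h2

end Cfsg.Agent.H50.Her
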