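import Cfsg.Agent.H50.HerNum

/-!
# Hering's theorem: the numerical elimination of the sporadic groups and the Tits group (helper50)
-/

set_option autoImplicit false
set_option maxRecDepth 100000

namespace Cfsg.Agent.H50.Her

/-- `M11` -/
theorem num_m11 {p d b r R m' : ℕ} (hp : p.Prime) (hd : 3 ≤ d) (hL : Large p d r R) (hr : r ∣ 7920)
    (hm' : m' ∣ 15840) (hb : 0 < b) (hbd : b ∣ d) (hlt : b < d)
    (h3 : p ^ d - 1 ∣ (p ^ b - 1) * m') (h4 : 7920 ∣ glCard p d) : (p, d) ∈ ([] : List (ℕ × ℕ)) :=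
  no_of_check (fs := [(2, 5), (3, 2), (5, 1), (11, 1)])
    (xs := [(5, 3)]) (ex := [])
    (by decide +kernel) (by decide +kernel) (by decide +kernel) (by decide +kernel) (by decide +kernel)
    hp hd hL hr (by norm_num) hm' hb hbd hlt h3 h4

/-- `M12` -/
theorem num_m12 {p d b r R m' : ℕ} (hp : p.Prime) (hd : 3 ≤ d) (hL : Large p d r R) (hr : r ∣ 95040)
    (hm' : m' ∣ 190080) (hb : 0 < b) (hbd : b ∣ d) (hlt : b < d)
    (h3 : p ^ d - 1 ∣ (p ^ b - 1) * m') (h4 : 95040 ∣ glCard p d) : (p, d) ∈ ([] : List (ℕ × ℕ)) :=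
  no_of_check (fs := [(2, 7), (3, 3), (5, 1), (11, 1)])
    (xs := [(5, 3)]) (ex := [])
    (by decide +kernel) (by decide +kernel) (by decide +kernel) (by decide +kernel) (by decide +kernel)
    hp hd hL hr (by norm_num) hm' hb hbd hlt h3 h4

/-- `M22` -/
theorem num_m22 {p d b r R m' : ℕ} (hp : p.Prime) (hd : 3 ≤ d) (hL : Large p d r R) (hr : r ∣ 443520)
    (hm' : m' ∣ 887040) (hb : 0 < b) (hbd : b ∣ d) (hlt : b < d)
    (h3 : p ^ d - 1 ∣ (p ^ b - 1) * m') (h4 : 443520 ∣ glCard p d) : (p, d) ∈ ([] : List (ℕ × ℕ)) :=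
  no_of_check (fs := [(2, 8), (3, 2), (5, 1), (7, 1), (11, 1)])
    (xs := [(3, 5), (5, 3)]) (ex := [])
    (by decide +kernel) (by decide +kernel) (by decide +kernel) (by decide +kernel) (by decide +kernel)
    hp hd hL hr (by norm_num) hm' hb hbd hlt h3 h4

/-- `M23` -/
theorem num_m23 {p d b r R m' : ℕ} (hp : p.Prime) (hd : 3 ≤ d) (hL : Large p d r R) (hr : r ∣ 10200960)
    (hm' : m' ∣ 20401920) (hb : 0 < b) (hbd : b ∣ d) (hlt : b < d)
    (h3 : p ^ d - 1 ∣ (p ^ b - 1) * m') (h4 : 10200960 ∣ glCard p d) : (p, d) ∈ ([] : List (ℕ × ℕ)) :=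
  no_of_check (fs := [(2, 8), (3, 2), (5, 1), (7, 1), (11, 1), (23, 1)])
    (xs := [(3, 5), (5, 3), (11, 2)]) (ex := [])
    (by decide +kernel) (by decide +kernel) (by decide +kernel) (by decide +kernel) (by decide +kernel)
    hp hd hL hr (by norm_num) hm' hb hbd hlt h3 h4

/-- `M24` -/
theorem num_m24 {p d b r R m' : ℕ} (hp : p.Prime) (hd : 3 ≤ d) (hL : Large p d r R) (hr : r ∣ 244823040)
    (hm' : m' ∣ 489646080) (hb : 0 < b) (hbd : b ∣ d) (hlt : b < d)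
    (h3 : p ^ d - 1 ∣ (p ^ b - 1) * m') (h4 : 244823040 ∣ glCard p d) : (p, d) ∈ ([] : List (ℕ × ℕ)) :=
  no_of_check (fs := [(2, 11), (3, 3), (5, 1), (7, 1), (11, 1), (23, 1)])
    (xs := [(3, 5), (5, 3), (11, 2)]) (ex := [])
    (by decide +kernel) (by decide +kernel) (by decide +kernel) (by decide +kernel) (by decide +kernel)
    hp hd hL hr (by norm_num) hm' hb hbd hlt h3 h4

/-- `J1` -/
theorem num_j1 {p d b r R m' : ℕ} (hp : p.Prime) (hd : 3 ≤ d) (hL : Large p d r R) (hr : r ∣ 175560)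
    (hm' : m' ∣ 351120) (hb : 0 < b) (hbd : b ∣ d) (hlt : b < d)
    (h3 : p ^ d - 1 ∣ (p ^ b - 1) * m') (h4 : 175560 ∣ glCard p d) : (p, d) ∈ ([(11, 3)] : List (ℕ × ℕ)) :=
  no_of_check (fs := [(2, 4), (3, 1), (5, 1), (7, 1), (11, 1), (19, 1)])
    (xs := [(3, 20), (5, 3), (6, 29), (9, 3)]) (ex := [(11, 3)])
    (by decide +kernel) (by decide +kernel) (by decide +kernel) (by decide +kernel) (by decide +kernel)
    hp hd hL hr (by norm_num) hm' hb hbd hlt h3 h4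

/-- `J2` -/
theorem num_j2 {p d b r R m' : ℕ} (hp : p.Prime) (hd : 3 ≤ d) (hL : Large p d r R) (hr : r ∣ 604800)
    (hm' : m' ∣ 1209600) (hb : 0 < b) (hbd : b ∣ d) (hlt : b < d)
    (h3 : p ^ d - 1 ∣ (p ^ b - 1) * m') (h4 : 604800 ∣ glCard p d) : (p, d) ∈ ([(7, 4)] : List (ℕ × ℕ)) :=
  no_of_check (fs := [(2, 8), (3, 3), (5, 2), (7, 1)])
    (xs := [(3, 5), (4, 11)]) (ex := [(7, 4)])
    (by decide +kernel) (by decide +kernel) (by decide +kernel) (by decide +kernel) (by decide +kernel)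
    hp hd hL hr (by norm_num) hm' hb hbd hlt h3 h4

/-- `J3` -/
theorem num_j3 {p d b r R m' : ℕ} (hp : p.Prime) (hd : 3 ≤ d) (hL : Large p d r R) (hr : r ∣ 50232960)
    (hm' : m' ∣ 100465920) (hb : 0 < b) (hbd : b ∣ d) (hlt : b < d)
    (h3 : p ^ d - 1 ∣ (p ^ b - 1) * m') (h4 : 50232960 ∣ glCard p d) : (p, d) ∈ ([] : List (ℕ × ℕ)) :=
  no_of_check (fs := [(2, 8), (3, 5), (5, 1), (17, 1), (19, 1)])
    (xs := [(3, 8), (4, 19), (6, 11), (8, 4), (9, 3)]) (ex := [])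
    (by decide +kernel) (by decide +kernel) (by decide +kernel) (by decide +kernel) (by decide +kernel)
    hp hd hL hr (by norm_num) hm' hb hbd hlt h3 h4

/-- `HS` -/
theorem num_hs {p d b r R m' : ℕ} (hp : p.Prime) (hd : 3 ≤ d) (hL : Large p d r R) (hr : r ∣ 44352000)
    (hm' : m' ∣ 88704000) (hb : 0 < b) (hbd : b ∣ d) (hlt : b < d)
    (h3 : p ^ d - 1 ∣ (p ^ b - 1) * m') (h4 : 44352000 ∣ glCard p d) : (p, d) ∈ ([] : List (ℕ × ℕ)) :=
  no_of_check (fs := [(2, 10), (3, 2), (5, 3), (7, 1), (11, 1)])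
    (xs := [(3, 5), (4, 23), (5, 3)]) (ex := [])
    (by decide +kernel) (by decide +kernel) (by decide +kernel) (by decide +kernel) (by decide +kernel)
    hp hd hL hr (by norm_num) hm' hb hbd hlt h3 h4

/-- `McL` -/
theorem num_mcl {p d b r R m' : ℕ} (hp : p.Prime) (hd : 3 ≤ d) (hL : Large p d r R) (hr : r ∣ 898128000)
    (hm' : m' ∣ 1796256000) (hb : 0 < b) (hbd : b ∣ d) (hlt : b < d)
    (h3 : p ^ d - 1 ∣ (p ^ b - 1) * m') (h4 : 898128000 ∣ glCard p d) : (p, d) ∈ ([] : List (ℕ × ℕ)) :=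
  no_of_check (fs := [(2, 8), (3, 6), (5, 3), (7, 1), (11, 1)])
    (xs := [(3, 5), (4, 23), (5, 3)]) (ex := [])
    (by decide +kernel) (by decide +kernel) (by decide +kernel) (by decide +kernel) (by decide +kernel)
    hp hd hL hr (by norm_num) hm' hb hbd hlt h3 h4

/-- `He` -/
theorem num_he {p d b r R m' : ℕ} (hp : p.Prime) (hd : 3 ≤ d) (hL : Large p d r R) (hr : r ∣ 4030387200)
    (hm' : m' ∣ 8060774400) (hb : 0 < b) (hbd : b ∣ d) (hlt : b < d)
    (h3 : p ^ d - 1 ∣ (p ^ b - 1) * m') (h4 : 4030387200 ∣ glCard p d) : (p, d) ∈ ([] : List (ℕ × ℕ)) :=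
  no_of_check (fs := [(2, 11), (3, 3), (5, 2), (7, 3), (17, 1)])
    (xs := [(3, 33), (4, 42), (6, 46), (8, 4)]) (ex := [])
    (by decide +kernel) (by decide +kernel) (by decide +kernel) (by decide +kernel) (by decide +kernel)
    hp hd hL hr (by norm_num) hm' hb hbd hlt h3 h4

/-- `Ru` -/
theorem num_ru {p d b r R m' : ℕ} (hp : p.Prime) (hd : 3 ≤ d) (hL : Large p d r R) (hr : r ∣ 145926144000)
    (hm' : m' ∣ 291852288000) (hb : 0 < b) (hbd : b ∣ d) (hlt : b < d)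
    (h3 : p ^ d - 1 ∣ (p ^ b - 1) * m') (h4 : 145926144000 ∣ glCard p d) : (p, d) ∈ ([] : List (ℕ × ℕ)) :=
  no_of_check (fs := [(2, 15), (3, 3), (5, 3), (7, 1), (13, 1), (29, 1)])
    (xs := [(3, 17), (4, 435), (6, 24), (7, 3), (14, 3)]) (ex := [])
    (by decide +kernel) (by decide +kernel) (by decide +kernel) (by decide +kernel) (by decide +kernel)
    hp hd hL hr (by norm_num) hm' hb hbd hlt h3 h4

/-- `Suz` -/
theorem num_suz {p d b r R m' : ℕ} (hp : p.Prime) (hd : 3 ≤ d) (hL : Large p d r R) (hr : r ∣ 448345497600)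
    (hm' : m' ∣ 896690995200) (hb : 0 < b) (hbd : b ∣ d) (hlt : b < d)
    (h3 : p ^ d - 1 ∣ (p ^ b - 1) * m') (h4 : 448345497600 ∣ glCard p d) : (p, d) ∈ ([] : List (ℕ × ℕ)) :=
  no_of_check (fs := [(2, 14), (3, 7), (5, 2), (7, 1), (11, 1), (13, 1)])
    (xs := [(3, 17), (4, 37), (5, 3), (6, 24)]) (ex := [])
    (by decide +kernel) (by decide +kernel) (by decide +kernel) (by decide +kernel) (by decide +kernel)
    hp hd hL hr (by norm_num) hm' hb hbd hlt h3 h4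

/-- `ON` -/
theorem num_on {p d b r R m' : ℕ} (hp : p.Prime) (hd : 3 ≤ d) (hL : Large p d r R) (hr : r ∣ 460815505920)
    (hm' : m' ∣ 921631011840) (hb : 0 < b) (hbd : b ∣ d) (hlt : b < d)
    (h3 : p ^ d - 1 ∣ (p ^ b - 1) * m') (h4 : 460815505920 ∣ glCard p d) : (p, d) ∈ ([] : List (ℕ × ℕ)) :=
  no_of_check (fs := [(2, 10), (3, 4), (5, 1), (7, 3), (11, 1), (19, 1), (31, 1)])
    (xs := [(3, 779), (5, 7), (6, 1101), (9, 3), (10, 8), (15, 3)]) (ex := [])
    (by decide +kernel) (by decide +kernel) (by decide +kernel) (by decide +kernel) (by decide +kernel)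
    hp hd hL hr (by norm_num) hm' hb hbd hlt h3 h4

/-- `Co3` -/
theorem num_co3 {p d b r R m' : ℕ} (hp : p.Prime) (hd : 3 ≤ d) (hL : Large p d r R) (hr : r ∣ 495766656000)
    (hm' : m' ∣ 991533312000) (hb : 0 < b) (hbd : b ∣ d) (hlt : b < d)
    (h3 : p ^ d - 1 ∣ (p ^ b - 1) * m') (h4 : 495766656000 ∣ glCard p d) : (p, d) ∈ ([] : List (ℕ × ℕ)) :=
  no_of_check (fs := [(2, 11), (3, 7), (5, 3), (7, 1), (11, 1), (23, 1)])
    (xs := [(3, 5), (4, 23), (5, 3), (11, 2)]) (ex := [])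
    (by decide +kernel) (by decide +kernel) (by decide +kernel) (by decide +kernel) (by decide +kernel)
    hp hd hL hr (by norm_num) hm' hb hbd hlt h3 h4

/-- `Co2` -/
theorem num_co2 {p d b r R m' : ℕ} (hp : p.Prime) (hd : 3 ≤ d) (hL : Large p d r R) (hr : r ∣ 42305421312000)
    (hm' : m' ∣ 84610842624000) (hb : 0 < b) (hbd : b ∣ d) (hlt : b < d)
    (h3 : p ^ d - 1 ∣ (p ^ b - 1) * m') (h4 : 42305421312000 ∣ glCard p d) : (p, d) ∈ ([] : List (ℕ × ℕ)) :=
  no_of_check (fs := [(2, 19), (3, 6), (5, 3), (7, 1), (11, 1), (23, 1)])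
    (xs := [(3, 5), (4, 23), (5, 3), (11, 2)]) (ex := [])
    (by decide +kernel) (by decide +kernel) (by decide +kernel) (by decide +kernel) (by decide +kernel)
    hp hd hL hr (by norm_num) hm' hb hbd hlt h3 h4

/-- `Fi22` -/
theorem num_fi22 {p d b r R m' : ℕ} (hp : p.Prime) (hd : 3 ≤ d) (hL : Large p d r R) (hr : r ∣ 64561751654400)
    (hm' : m' ∣ 129123503308800) (hb : 0 < b) (hbd : b ∣ d) (hlt : b < d)
    (h3 : p ^ d - 1 ∣ (p ^ b - 1) * m') (h4 : 64561751654400 ∣ glCard p d) : (p, d) ∈ ([] : List (ℕ × ℕ)) :=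
  no_of_check (fs := [(2, 18), (3, 9), (5, 2), (7, 1), (11, 1), (13, 1)])
    (xs := [(3, 17), (4, 37), (5, 3), (6, 24)]) (ex := [])
    (by decide +kernel) (by decide +kernel) (by decide +kernel) (by decide +kernel) (by decide +kernel)
    hp hd hL hr (by norm_num) hm' hb hbd hlt h3 h4

/-- `HN` -/
theorem num_hn {p d b r R m' : ℕ} (hp : p.Prime) (hd : 3 ≤ d) (hL : Large p d r R) (hr : r ∣ 273030912000000)
    (hm' : m' ∣ 546061824000000) (hb : 0 < b) (hbd : b ∣ d) (hlt : b < d)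
    (h3 : p ^ d - 1 ∣ (p ^ b - 1) * m') (h4 : 273030912000000 ∣ glCard p d) : (p, d) ∈ ([] : List (ℕ × ℕ)) :=
  no_of_check (fs := [(2, 15), (3, 6), (5, 6), (7, 1), (11, 1), (19, 1)])
    (xs := [(3, 20), (4, 251), (5, 3), (6, 29), (9, 3)]) (ex := [])
    (by decide +kernel) (by decide +kernel) (by decide +kernel) (by decide +kernel) (by decide +kernel)
    hp hd hL hr (by norm_num) hm' hb hbd hlt h3 h4

/-- `Ly` -/
theorem num_ly {p d b r R m' : ℕ} (hp : p.Prime) (hd : 3 ≤ d) (hL : Large p d r R) (hr : r ∣ 51765179004000000)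
    (hm' : m' ∣ 103530358008000000) (hb : 0 < b) (hbd : b ∣ d) (hlt : b < d)
    (h3 : p ^ d - 1 ∣ (p ^ b - 1) * m') (h4 : 51765179004000000 ∣ glCard p d) : (p, d) ∈ ([] : List (ℕ × ℕ)) :=
  no_of_check (fs := [(2, 9), (3, 7), (5, 6), (7, 1), (11, 1), (31, 1), (37, 1), (67, 1)])
    (xs := [(3, 1271), (4, 1521), (5, 7), (6, 1797), (9, 3), (10, 8), (11, 2), (12, 5), (15, 3), (18, 3), (22, 3), (33, 2)]) (ex := [])
    (by decide +kernel) (by decide +kernel) (by decide +kernel) (by decide +kernel) (by decide +kernel)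
    hp hd hL hr (by norm_num) hm' hb hbd hlt h3 h4

/-- `Th` -/
theorem num_th {p d b r R m' : ℕ} (hp : p.Prime) (hd : 3 ≤ d) (hL : Large p d r R) (hr : r ∣ 90745943887872000)
    (hm' : m' ∣ 181491887775744000) (hb : 0 < b) (hbd : b ∣ d) (hlt : b < d)
    (h3 : p ^ d - 1 ∣ (p ^ b - 1) * m') (h4 : 90745943887872000 ∣ glCard p d) : (p, d) ∈ ([] : List (ℕ × ℕ)) :=
  no_of_check (fs := [(2, 16), (3, 10), (5, 3), (7, 2), (13, 1), (19, 1), (31, 1)])
    (xs := [(3, 1061), (4, 81), (5, 4), (6, 1501), (9, 3), (10, 5), (15, 3)]) (ex := [])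
    (by decide +kernel) (by decide +kernel) (by decide +kernel) (by decide +kernel) (by decide +kernel)
    hp hd hL hr (by norm_num) hm' hb hbd hlt h3 h4

/-- `Fi23` -/
theorem num_fi23 {p d b r R m' : ℕ} (hp : p.Prime) (hd : 3 ≤ d) (hL : Large p d r R) (hr : r ∣ 4089470473293004800)
    (hm' : m' ∣ 8178940946586009600) (hb : 0 < b) (hbd : b ∣ d) (hlt : b < d)
    (h3 : p ^ d - 1 ∣ (p ^ b - 1) * m') (h4 : 4089470473293004800 ∣ glCard p d) : (p, d) ∈ ([] : List (ℕ × ℕ)) :=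
  no_of_check (fs := [(2, 19), (3, 13), (5, 2), (7, 1), (11, 1), (13, 1), (17, 1), (23, 1)])
    (xs := [(3, 17), (4, 149), (5, 3), (6, 24), (8, 4), (11, 2)]) (ex := [])
    (by decide +kernel) (by decide +kernel) (by decide +kernel) (by decide +kernel) (by decide +kernel)
    hp hd hL hr (by norm_num) hm' hb hbd hlt h3 h4

/-- `Co1` -/
theorem num_co1 {p d b r R m' : ℕ} (hp : p.Prime) (hd : 3 ≤ d) (hL : Large p d r R) (hr : r ∣ 4157776806543360000)
    (hm' : m' ∣ 8315553613086720000) (hb : 0 < b) (hbd : b ∣ d) (hlt : b < d)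
    (h3 : p ^ d - 1 ∣ (p ^ b - 1) * m') (h4 : 4157776806543360000 ∣ glCard p d) : (p, d) ∈ ([] : List (ℕ × ℕ)) :=
  no_of_check (fs := [(2, 22), (3, 9), (5, 4), (7, 2), (11, 1), (13, 1), (23, 1)])
    (xs := [(3, 44), (4, 181), (5, 3), (6, 62), (11, 2)]) (ex := [])
    (by decide +kernel) (by decide +kernel) (by decide +kernel) (by decide +kernel) (by decide +kernel)
    hp hd hL hr (by norm_num) hm' hb hbd hlt h3 h4

/-- `J4` -/
theorem num_j4 {p d b r R m' : ℕ} (hp : p.Prime) (hd : 3 ≤ d) (hL : Large p d r R) (hr : r ∣ 86775571046077562880)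
    (hm' : m' ∣ 173551142092155125760) (hb : 0 < b) (hbd : b ∣ d) (hlt : b < d)
    (h3 : p ^ d - 1 ∣ (p ^ b - 1) * m') (h4 : 86775571046077562880 ∣ glCard p d) : (p, d) ∈ ([] : List (ℕ × ℕ)) :=
  no_of_check (fs := [(2, 22), (3, 3), (5, 1), (7, 1), (11, 3), (23, 1), (29, 1), (31, 1), (37, 1), (43, 1)])
    (xs := [(3, 1018), (4, 147), (5, 22), (6, 1440), (7, 5), (9, 3), (10, 26), (11, 2), (12, 5), (14, 6), (15, 3), (18, 3), (21, 2)]) (ex := [])
    (by decide +kernel) (by decide +kernel) (by decide +kernel) (by decide +kernel) (by decide +kernel)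
    hp hd hL hr (by norm_num) hm' hb hbd hlt h3 h4

/-- `Fi24p` -/
theorem num_fi24 {p d b r R m' : ℕ} (hp : p.Prime) (hd : 3 ≤ d) (hL : Large p d r R) (hr : r ∣ 1255205709190661721292800)
    (hm' : m' ∣ 2510411418381323442585600) (hb : 0 < b) (hbd : b ∣ d) (hlt : b < d)
    (h3 : p ^ d - 1 ∣ (p ^ b - 1) * m') (h4 : 1255205709190661721292800 ∣ glCard p d) : (p, d) ∈ ([] : List (ℕ × ℕ)) :=
  no_of_check (fs := [(2, 22), (3, 16), (5, 2), (7, 3), (11, 1), (13, 1), (17, 1), (23, 1), (29, 1)])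
    (xs := [(3, 116), (4, 801), (5, 3), (6, 164), (7, 3), (8, 4), (11, 2), (14, 3)]) (ex := [])
    (by decide +kernel) (by decide +kernel) (by decide +kernel) (by decide +kernel) (by decide +kernel)
    hp hd hL hr (by norm_num) hm' hb hbd hlt h3 h4

/-- `Tits` -/
theorem num_tits {p d b r R m' : ℕ} (hp : p.Prime) (hd : 3 ≤ d) (hL : Large p d r R) (hr : r ∣ 17971200)
    (hm' : m' ∣ 35942400) (hb : 0 < b) (hbd : b ∣ d) (hlt : b < d)
    (h3 : p ^ d - 1 ∣ (p ^ b - 1) * m') (h4 : 17971200 ∣ glCard p d) : (p, d) ∈ ([] : List (ℕ × ℕ)) :=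
  no_of_check (fs := [(2, 12), (3, 3), (5, 2), (13, 1)])
    (xs := [(3, 7), (4, 37), (6, 9)]) (ex := [])
    (by decide +kernel) (by decide +kernel) (by decide +kernel) (by decide +kernel) (by decide +kernel)
    hp hd hL hr (by norm_num) hm' hb hbd hlt h3 h4

/-- `B` -/
theorem num_b {p d b r R m' : ℕ} (hp : p.Prime) (hd : 3 ≤ d) (hL : Large p d r R) (hr : r ∣ 4154781481226426191177580544000000)
    (hm' : m' ∣ 8309562962452852382355161088000000) (hb : 0 < b) (hbd : b ∣ d) (hlt : b < d)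
    (h3 : p ^ d - 1 ∣ (p ^ b - 1) * m') (h4 : 4154781481226426191177580544000000 ∣ glCard p d) : (p, d) ∈ ([] : List (ℕ × ℕ)) :=
  no_of_check (fs := [(2, 42), (3, 13), (5, 6), (7, 2), (11, 1), (13, 1), (17, 1), (19, 1), (23, 1), (31, 1), (47, 1)])
    (xs := [(3, 1061), (4, 3717), (5, 7), (6, 1501), (8, 4), (9, 3), (10, 8), (11, 2), (15, 3), (23, 2)]) (ex := [])
    (by decide +kernel) (by decide +kernel) (by decide +kernel) (by decide +kernel) (by decide +kernel)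
    hp hd hL hr (by norm_num) hm' hb hbd hlt h3 h4

end Cfsg.Agent.H50.Her
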