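import Cfsg.Agent.S0000
import Cfsg.Agent.H50.HerFinal

/-!
# Hering's theorem, the main theorem (with the classification) (helper50)

`main` : the hypothesis `Main` of `H667.HerFin.s3695_of_main` and of the action form (`H667.HerAct`).
-/

set_option autoImplicit false

namespace Cfsg.Agent.H50.Her

universe u

theorem main : Cfsg.Agent.H667.HerFin.Main.{u} :=
  main_of_known fun X _ _ _ => Cfsg.Agent.S0000.result

end Cfsg.Agent.H50.Her
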