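import Cfsg.Agent.H50.HerMain
import Cfsg.Agent.H365.Zsig

/-!
# Hering's theorem: the numerical setting of the rows (helper50)

`Rel p d r R` : a large primitive prime divisor, or `r = R = d + 1` in one of the exceptional pairs
`(2, 10), (2, 12), (2, 18), (3, 6), (5, 6)`.

`exists_rel` : it exists for `3 ≤ d`, except for the pairs `(2, 4), (2, 6), (3, 4)`.
-/

set_option autoImplicit false

namespace Cfsg.Agent.H50.Her

/-- The exceptional pairs. -/
def Exc (p d : ℕ) : Prop := (p = 2 ∧ (d = 10 ∨ d = 12 ∨ d = 18)) ∨ (d = 6 ∧ (p = 3 ∨ p = 5))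

/-- The numerical setting. -/
def Rel (p d r R : ℕ) : Prop := Large p d r R ∨ (r = d + 1 ∧ R = d + 1 ∧ Exc p d)

theorem Rel.ppd {p d r R : ℕ} (h : Rel p d r R) : Ppd p d r R := by
  rcases h with h | ⟨rfl, rfl, h⟩
  · exact h.ppd
  · rcases h with ⟨rfl, h⟩ | ⟨rfl, h⟩
    · exact ppd_two (Or.inr h)
    · exact ppd_six h

theorem exists_rel {p d : ℕ} (hp : p.Prime) (hd : 3 ≤ d) (h2 : ¬ (p = 2 ∧ (d = 4 ∨ d = 6))) (h3 : ¬ (p = 3 ∧ d = 4)) :
    ∃ r R, Rel p d r R := by
  by_cases he : Exc p d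
  · exact ⟨d + 1, d + 1, Or.inr ⟨rfl, rfl, he⟩⟩
  · unfold Exc at he
    obtain ⟨r, hr, hdvd, hi, hl⟩ := Cfsg.Agent.H365.Zsig.large_zsigmondy p d hp.two_le (by omega) (by omega) (by omega)
      (by omega) (by omega)
    have := Fact.mk hr
    have hord : orderOf (p : ZMod r) = d := by
      rw [orderOf_eq_iff (by omega)]
      constructor
      · have h1 : ((p ^ d - 1 : ℕ) : ZMod r) = 0 := (ZMod.natCast_eq_zero_iff _ _).2 hdvd
        rw [Nat.cast_sub (Nat.one_le_pow _ _ hp.pos), Nat.cast_pow, Nat.cast_one, sub_eq_zero] at h1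
        exact h1
      · intro m hm h0 h1
        refine hi m h0 hm ?_
        rw [← ZMod.natCast_eq_zero_iff, Nat.cast_sub (Nat.one_le_pow _ _ hp.pos), Nat.cast_pow, Nat.cast_one, h1,
          sub_self]
    -- `r ≡ 1` modulo `d`
    have h4 : d ∣ r - 1 := by
      rw [← hord]
      have h5 : ((p : ℕ) : ZMod r) ≠ 0 := by
        intro h0
        rw [h0, orderOf_eq_zero_iff'.2 (fun n hn => by rw [zero_pow hn.ne']; exact zero_ne_one)] at hord
        omega
      exact ZMod.orderOf_dvd_card_sub_one h5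
    obtain ⟨c, hc⟩ := h4
    have hr1 := hr.one_lt
    rcases hl with hl | hl
    · refine ⟨r, r, Or.inl ⟨hr, hord, Or.inl ⟨rfl, ?_⟩, hdvd⟩⟩
      have hc2 : 2 ≤ c := by
        by_contra hcon
        interval_cases c <;> omega
      have : d * 2 ≤ d * c := Nat.mul_le_mul_left d hc2
      omega
    · by_cases hrd : r = d + 1
      · exact ⟨r, r ^ 2, Or.inl ⟨hr, hord, Or.inr ⟨rfl, hrd⟩, hl⟩⟩
      · refine ⟨r, r, Or.inl ⟨hr, hord, Or.inl ⟨rfl, ?_⟩, hdvd⟩⟩
        have hc2 : 2 ≤ c := by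
          by_contra hcon
          interval_cases c <;> omega
        have : d * 2 ≤ d * c := Nat.mul_le_mul_left d hc2
        omega

end Cfsg.Agent.H50.Her
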