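import Cfsg.Agent.H905.DCBound

/-!
# Blocks (helper50, for S3695)

`S : Sys Δ G p`, `ρ` a simple representation in characteristic `p`, `Vx x` the fixed vectors of `U x` (the block of `x`).

* `fix_apt` : an element fixing two opposite chambers of an apartment fixes the apartment;
* `irr_apt` : `Vx (c u)` is irreducible under the pointwise stabiliser of the apartment `c`;
* `exists_apt_pair` : two chambers are in an apartment;
* `Vx_eq_or_inf`, `Vx_eq_of_mem`, `Vx_eq_iff_mem` : blocks are equal or disjoint, `Vx x = Vx y ↔ δ x y ∈ W_J`.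
* `gate_fix` : for `y` a gate seen from `x`, `u ∈ U x` fixes a nonzero vector of `Vx y` iff it fixes `y`.
-/

set_option autoImplicit false
set_option linter.unusedSectionVars false

namespace Cfsg.Agent.H50.Her

open Cfsg.Agent.Tits.Core Cfsg.Agent.Tits.Core.Bldg Cfsg.Agent.Tits.Exchange Cfsg.Agent.Tits
open Cfsg.Agent.FixBN Cfsg.Agent.FixBN.Cox Cfsg.Agent.Omega.CR Cfsg.Agent.Omega.CR.Bl Cfsg.Agent.H905.DC

variable {I : Type*} {M : CoxeterMatrix I} {W : Type*} [Group W] {cs : CoxeterSystem M W} {C : Type*}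
  {Δ : Bldg cs C}

local prefix:100 "ℓ" => cs.length

variable {G : Type*} [Group G] [MulAction G C] {p : ℕ} {S : Sys Δ G p} [F : OppRes.Cox cs]
  {k V : Type*} [Field k] [AddCommGroup V] [Module k V] {ρ : G →* Module.End k V}

include S in
/-- An element fixing two opposite chambers of an apartment fixes the apartment. -/
theorem fix_apt {c : W → C} (hc : IsApt Δ c) {u : W} {g : G} (h1 : g • c u = c u)
    (h2 : g • c (u * w0 cs) = c (u * w0 cs)) (v : W) : g • c v = c v := by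
  have e1 : Δ.δ (c u) (c v) = u⁻¹ * v := hc u v
  have e2 : Δ.δ (c v) (c (u * w0 cs)) = v⁻¹ * (u * w0 cs) := hc _ _
  have hl : ℓ (u⁻¹ * v * (v⁻¹ * (u * w0 cs))) = ℓ (u⁻¹ * v) + ℓ (v⁻¹ * (u * w0 cs)) := by
    have h3 := F.len_mul_w0 (v⁻¹ * u)
    have h4 : ℓ (v⁻¹ * u) = ℓ (u⁻¹ * v) := by
      rw [← cs.length_inv (v⁻¹ * u), mul_inv_rev, inv_inv]
    have h5 : u⁻¹ * v * (v⁻¹ * (u * w0 cs)) = w0 cs := by group
    rw [h5, ← mul_assoc]
    omega
  refine Δ.between_unique hl ?_ ?_ e1 e2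
  · rw [← e1, ← S.iso g (c u) (c v), h1]
  · rw [← e2, ← S.iso g (c v) (c (u * w0 cs)), h2]

include S in
/-- Two chambers are in an apartment. -/
theorem exists_apt_pair (x y : C) : ∃ c : W → C, IsApt Δ c ∧ c 1 = x ∧ c (Δ.δ x y) = y := by
  obtain ⟨c, hc1, hc⟩ := exists_apt (Δ := Δ) x
  obtain ⟨a, ha, e⟩ := S.exists_move (x := x) (z := c (Δ.δ x y)) (z' := y) (by
    rw [← hc1, hc, inv_one, one_mul, hc1])
  refine ⟨fun w => a • c w, ?_, ?_, e⟩
  · intro u v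
    rw [S.iso, hc]
  · change a • c 1 = x
    rw [hc1, S.fix x a ha]

/-- the stabiliser of two opposite chambers is enough for the stabiliser of a chamber -/
theorem exists_T {x y : C} (_hxy : Δ.Opp x y) {g : G} (hg : g • x = x) (v : V) (hv : v ∈ Vx S ρ x) :
    ∃ t : G, t • x = x ∧ t • y = y ∧ ρ g v = ρ t v := by
  obtain ⟨a, ha, e⟩ := S.exists_move (x := x) (z := y) (z' := g • y) (by
    have := S.iso g x y
    rw [hg] at this
    exact this.symm)
  have h1 : (a⁻¹ * g) • x = x := by rw [mul_smul, hg, inv_smul_eq_iff, S.fix x a ha]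
  refine ⟨a⁻¹ * g, h1, by rw [mul_smul, ← e, inv_smul_smul], ?_⟩
  have h2 := rho_mem_Vx S ρ (a⁻¹ * g) hv
  rw [h1] at h2
  have h3 := h2 a ha
  rw [← rho_mul, mul_inv_cancel_left] at h3
  exact h3

section

variable [Fintype C] [Fact p.Prime] [CharP k p] (hth : Δ.Thick) [Finite G] [FiniteDimensional k V]
  (hirr : ∀ L : Submodule k V, Ivt ρ ⊤ L → L = ⊥ ∨ L = ⊤)

include hth hirr

/-- `Vx x` is irreducible under the stabiliser of `x` and an opposite chamber. -/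
theorem irr_opp {x y : C} (hxy : Δ.Opp x y) {Q : Submodule k V} (hQ : Q ≤ Vx S ρ x)
    (hQi : ∀ g : G, g • x = x → g • y = y → ∀ q ∈ Q, ρ g q ∈ Q) : Q = ⊥ ∨ Q = Vx S ρ x := by
  refine simple_Vx (S := S) hth hirr x hQ ?_
  intro g hg q hq
  obtain ⟨t, h1, h2, h3⟩ := exists_T (S := S) hxy hg q (hQ hq)
  rw [h3]
  exact hQi t h1 h2 q hq

/-- `Vx (c u)` is irreducible under the pointwise stabiliser of the apartment `c`. -/
theorem irr_apt {c : W → C} (hc : IsApt Δ c) (u : W) {Q : Submodule k V} (hQ : Q ≤ Vx S ρ (c u))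
    (hQi : ∀ g : G, (∀ v, g • c v = c v) → ∀ q ∈ Q, ρ g q ∈ Q) : Q = ⊥ ∨ Q = Vx S ρ (c u) := by
  refine irr_opp (S := S) hth hirr (x := c u) (y := c (u * w0 cs)) ?_ hQ ?_
  · change Δ.δ _ _ = _
    rw [hc, inv_mul_cancel_left]
  · intro g h1 h2 q hq
    exact hQi g (fun v => fix_apt (S := S) hc h1 h2 v) q hq

/-- blocks are equal or disjoint -/
theorem Vx_eq_or_inf (x y : C) : Vx S ρ x = Vx S ρ y ∨ Vx S ρ x ⊓ Vx S ρ y = ⊥ := by
  obtain ⟨c, hc, h1, h2⟩ := exists_apt_pair (S := S) x y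
  have hinv : ∀ g : G, (∀ v, g • c v = c v) → ∀ q ∈ Vx S ρ x ⊓ Vx S ρ y, ρ g q ∈ Vx S ρ x ⊓ Vx S ρ y := by
    intro g hg q hq
    have hx : g • x = x := by rw [← h1]; exact hg 1
    have hy : g • y = y := by rw [← h2]; exact hg _
    have e1 := rho_mem_Vx S ρ g hq.1
    have e2 := rho_mem_Vx S ρ g hq.2
    rw [hx] at e1
    rw [hy] at e2
    exact ⟨e1, e2⟩
  have key1 := irr_apt (S := S) hth hirr hc 1 (Q := Vx S ρ x ⊓ Vx S ρ y) (by rw [h1]; exact inf_le_left) hinv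
  have key2 := irr_apt (S := S) hth hirr hc (Δ.δ x y) (Q := Vx S ρ x ⊓ Vx S ρ y) (by rw [h2]; exact inf_le_right) hinv
  rw [h1] at key1
  rw [h2] at key2
  rcases key1 with h | h
  · exact Or.inr h
  · rcases key2 with h' | h'
    · exact Or.inr h'
    · left
      rw [← h, h']

theorem Vx_eq_of_mem {x y : C} {v : V} (hx : v ∈ Vx S ρ x) (hy : v ∈ Vx S ρ y) (hv : v ≠ 0) :
    Vx S ρ x = Vx S ρ y := by
  rcases Vx_eq_or_inf (S := S) hth hirr x y with h | h
  · exact h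
  · exfalso
    have : v ∈ Vx S ρ x ⊓ Vx S ρ y := ⟨hx, hy⟩
    rw [h, Submodule.mem_bot] at this
    exact hv this

theorem Vx_eq_iff_mem [Nontrivial V] (x y : C) : Vx S ρ x = Vx S ρ y ↔ Δ.δ x y ∈ WJ cs (Jset S ρ) := by
  obtain ⟨c, hc, h1, h2⟩ := exists_apt_pair (S := S) x y
  have := Vx_eq_iff (S := S) hth hirr hc (u := 1) (v := Δ.δ x y)
  rwa [h1, h2, inv_one, one_mul] at this

/-- **`u ∈ U x` fixes a nonzero vector of the block of the gate `y` only if it fixes `y`.** -/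
theorem gate_fix [Nontrivial V] {x y : C} (hm : IsMinR cs (Jset S ρ) (Δ.δ x y)) {u : G} (hu : u ∈ S.U x) {v : V}
    (hv : v ∈ Vx S ρ y) (hv0 : v ≠ 0) (h : ρ u v = v) : u • y = y := by
  have h1 := rho_mem_Vx S ρ u hv
  rw [h] at h1
  have h2 := (Vx_eq_iff_mem (S := S) hth hirr y (u • y)).1 (Vx_eq_of_mem (S := S) hth hirr hv h1 hv0)
  have h3 := hm _ h2
  have h4 := Δ.δ_mul h3
  rw [S.δ_smul hu] at h4
  have h5 : Δ.δ y (u • y) = 1 := mul_eq_left.1 h4.symm
  exact (Δ.eq_of_δ_eq_one h5).symm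

/-- the gate of a block -/
theorem exists_gate [Nontrivial V] (x y : C) : ∃ z, IsMinR cs (Jset S ρ) (Δ.δ x z) ∧ Vx S ρ z = Vx S ρ y := by
  obtain ⟨z, hz⟩ := Δ.exists_isProj (Jset S ρ) y x
  refine ⟨z, hz.isMinR, ?_⟩
  rw [Vx_eq_iff_mem (S := S) hth hirr]
  exact Δ.mem_Res_symm hz.mem

theorem gate_unique [Nontrivial V] {x y z : C} (hy : IsMinR cs (Jset S ρ) (Δ.δ x y))
    (hz : IsMinR cs (Jset S ρ) (Δ.δ x z)) (h : Vx S ρ y = Vx S ρ z) : y = z := by
  have h1 := (Vx_eq_iff_mem (S := S) hth hirr y z).1 h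
  have h2 := (Vx_eq_iff_mem (S := S) hth hirr z y).1 h.symm
  have h3 := hy _ h1
  have h4 := Δ.δ_mul h3
  have h5 := hz _ h2
  have h6 := Δ.δ_mul h5
  rw [← h4] at h3
  rw [← h6] at h5
  have h7 : ℓ (Δ.δ y z) = 0 := by omega
  exact Δ.eq_of_δ_eq_one (cs.length_eq_zero_iff.1 h7)

end

end Cfsg.Agent.H50.Her
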