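import Cfsg.Agent.H50.HerRedTwo

/-!
# Hering's theorem: the configuration `Cfg` of the quasisimple normal subgroup (helper50)
-/

set_option autoImplicit false
set_option linter.style.haveILetI false

namespace Cfsg.Agent.H50.Her

open Module Cfsg.Agent.PermutationGroups.RegularLinear
open scoped commutatorElement

universe u

/-- An automorphism acting trivially modulo the centre of a perfect group is trivial. -/
theorem eq_one_of_quotAut {X : Type*} [Group X] (hX : commutator X = ⊤) {α : MulAut X} (h : quotAut X α = 1) :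
    α = 1 := by
  have h1 : ∀ x : X, α x * x⁻¹ ∈ Subgroup.center X := by
    intro x
    have h2 := DFunLike.congr_fun h (x : X ⧸ Subgroup.center X)
    rw [quotAut_mk, MulAut.one_apply] at h2
    have h3 := QuotientGroup.eq.1 h2.symm
    -- `x⁻¹ α x` central
    have h4 : α x * x⁻¹ = x⁻¹ * α x := by
      have := (Subgroup.mem_center_iff.1 h3) x
      calc α x * x⁻¹ = x * (x⁻¹ * α x) * x⁻¹ := by group
        _ = (x⁻¹ * α x) * x * x⁻¹ := by rw [this]
        _ = x⁻¹ * α x := by group
    rw [h4]; exact h3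
  let ζ : X →* Subgroup.center X :=
    { toFun := fun x => ⟨α x * x⁻¹, h1 x⟩
      map_one' := by apply Subtype.ext; simp
      map_mul' := by
        intro x y
        apply Subtype.ext
        change α (x * y) * (x * y)⁻¹ = α x * x⁻¹ * (α y * y⁻¹)
        have h2 := (Subgroup.mem_center_iff.1 (h1 y)) x⁻¹
        calc α (x * y) * (x * y)⁻¹ = α x * ((α y * y⁻¹) * x⁻¹) := by rw [map_mul]; group
          _ = α x * (x⁻¹ * (α y * y⁻¹)) := by rw [h2]
          _ = α x * x⁻¹ * (α y * y⁻¹) := by group }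
  have h2 : ∀ x, ζ x = 1 := by
    intro x
    have h3 : commutator X ≤ ζ.ker := by
      rw [commutator_def, Subgroup.commutator_le]
      intro a _ b _
      have hc : ∀ s t : Subgroup.center X, s * t = t * s := fun s t => Subtype.ext (Subgroup.mem_center_iff.mp t.2 s)
      rw [MonoidHom.mem_ker, map_commutatorElement, commutatorElement_def, hc (ζ a), mul_assoc, mul_assoc]
      simp
    rw [hX] at h3
    exact h3 (Subgroup.mem_top x)
  ext x
  have h3 : α x * x⁻¹ = 1 := congrArg Subtype.val (h2 x)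
  rw [mul_inv_eq_one] at h3
  rw [h3, MulAut.one_apply]

variable {p : ℕ} [hp : Fact p.Prime] {V : Type u} [AddCommGroup V] [Module (ZMod p) V] [Finite V] [Nontrivial V]
variable {G A L : Subgroup (V ≃ₗ[ZMod p] V)}

/-- The algebra of the endomorphisms commuting with `L`. -/
def endAlg (L : Subgroup (V ≃ₗ[ZMod p] V)) : Subalgebra (ZMod p) (End (ZMod p) V) :=
  Subalgebra.centralizer (ZMod p) ((fun a : V ≃ₗ[ZMod p] V => (a : End (ZMod p) V)) '' (L : Set (V ≃ₗ[ZMod p] V)))

omit [Finite V] [Nontrivial V] in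
theorem mem_endAlg {f : End (ZMod p) V} : f ∈ endAlg L ↔ ∀ g ∈ L, ∀ v, f (g v) = g (f v) := by
  rw [endAlg, Subalgebra.mem_centralizer_iff]
  constructor
  · intro h g hg v
    exact (DFunLike.congr_fun (h _ ⟨g, hg, rfl⟩) v).symm
  · rintro h _ ⟨g, hg, rfl⟩
    ext v
    exact (h g hg v).symm

/-- Quasisimplicity relative to `A`. -/
def Quasi (A L : Subgroup (V ≃ₗ[ZMod p] V)) : Prop :=
  ∀ M : Subgroup (V ≃ₗ[ZMod p] V), M ≤ L → Nor L M → M = L ∨ M ≤ A

/-- the nonzero elements of `End_L(V)` are injective -/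
theorem Perf.endAlg_inj (hL : Perf G A L) (htr : ∀ v w : V, v ≠ 0 → w ≠ 0 → ∃ g ∈ G, g v = w) :
    ∀ k ∈ endAlg L, ∀ v : V, v ≠ 0 → k v = 0 → k = 0 :=
  injective_of_commute_irreducible _ fun W hW => irr_of_nor htr hL.le hL.nor hL.not_com W
    fun n hn v hv => hW _ ⟨n, hn, rfl⟩ v hv

omit [Nontrivial V] in
theorem Perf.commutator_eq (hL : Perf G A L) : commutator L = ⊤ := by
  rw [eq_top_iff]
  rintro ⟨l, hl⟩ -
  have h1 : l ∈ (commutator L).map L.subtype := by
    rw [Subgroup.map_subtype_commutator, hL.perf]; exact hl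
  obtain ⟨l', hl', h⟩ := h1
  have : l' = ⟨l, hl⟩ := Subtype.ext h
  rw [← this]; exact hl'

omit [Nontrivial V] in
theorem Perf.mem_center (hL : Perf G A L) (hq : Quasi A L) (z : L) :
    z ∈ Subgroup.center L ↔ (z : V ≃ₗ[ZMod p] V) ∈ A := by
  constructor
  · intro hz
    have h1 : (Subgroup.center L).map L.subtype ≤ L := by rintro _ ⟨z, -, rfl⟩; exact z.2
    have h2 : Nor L ((Subgroup.center L).map L.subtype) := by
      rintro g hg _ ⟨z, hz, rfl⟩
      have h3 := (Subgroup.mem_center_iff.1 hz) ⟨g, hg⟩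
      have h4 : g * z = z * g := congrArg Subtype.val h3
      refine ⟨z, hz, ?_⟩
      change (z : V ≃ₗ[ZMod p] V) = g * z * g⁻¹
      rw [h4]; group
    rcases hq _ h1 h2 with h | h
    · exfalso
      apply hL.not_com
      intro a ha b hb
      rw [← h] at ha
      obtain ⟨z, hz, rfl⟩ := ha
      exact (congrArg Subtype.val ((Subgroup.mem_center_iff.1 hz) ⟨b, hb⟩)).symm
    · exact h ⟨z, hz, rfl⟩
  · intro hz
    rw [Subgroup.mem_center_iff]
    intro g
    apply Subtype.ext
    exact ((Subgroup.mem_centralizer_iff.1 (hL.L_le g.2)) z hz).symm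

omit [Nontrivial V] in
/-- `L / Z(L)` is simple. -/
theorem Perf.isSimple (hL : Perf G A L) (hq : Quasi A L) : IsSimpleGroup (L ⧸ Subgroup.center L) := by
  have hnt : Nontrivial (L ⧸ Subgroup.center L) := by
    obtain ⟨l, hl, hlA⟩ : ∃ l ∈ L, l ∉ A := by
      by_contra h
      push Not at h
      exact hL.not_le h
    refine ⟨⟨((⟨l, hl⟩ : L) : L ⧸ Subgroup.center L), 1, ?_⟩⟩
    rw [Ne, QuotientGroup.eq_one_iff, hL.mem_center hq]
    exact hlA
  refine ⟨fun N hN => ?_⟩
  have h1 : (N.comap (QuotientGroup.mk' (Subgroup.center L))).map L.subtype ≤ L := by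
    rintro _ ⟨z, -, rfl⟩; exact z.2
  have h2 : Nor L ((N.comap (QuotientGroup.mk' (Subgroup.center L))).map L.subtype) := by
    rintro g hg _ ⟨z, hz, rfl⟩
    exact ⟨⟨g, hg⟩ * z * ⟨g, hg⟩⁻¹, (hN.comap _).conj_mem z hz ⟨g, hg⟩, rfl⟩
  rcases hq _ h1 h2 with h | h
  · right
    rw [eq_top_iff]
    intro x _
    obtain ⟨x, rfl⟩ := QuotientGroup.mk_surjective x
    have h3 : (x : V ≃ₗ[ZMod p] V) ∈ (N.comap (QuotientGroup.mk' (Subgroup.center L))).map L.subtype := by
      rw [h]; exact x.2
    obtain ⟨x', hx', h4⟩ := h3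
    have : x' = x := Subtype.ext h4
    rw [← this]
    exact hx'
  · left
    rw [eq_bot_iff]
    intro x hx
    obtain ⟨x, rfl⟩ := QuotientGroup.mk_surjective x
    rw [Subgroup.mem_bot, QuotientGroup.eq_one_iff, hL.mem_center hq]
    exact h ⟨x, hx, rfl⟩

omit [Nontrivial V] in
/-- `|G|` divides `|A| |Aut(L / Z(L))|`. -/
theorem Perf.card_dvd (hL : Perf G A L) :
    Nat.card G ∣ Nat.card A * Nat.card (MulAut (L ⧸ Subgroup.center L)) := by
  have hfin := finite_gl (p := p) (V := V)
  have hfin2 : Finite (MulAut (L ⧸ Subgroup.center L)) := inferInstance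
  have hGn : G ≤ Subgroup.normalizer (L : Set (V ≃ₗ[ZMod p] V)) := by
    intro g hg
    rw [Subgroup.mem_normalizer_iff]
    intro q
    constructor
    · exact hL.nor g hg q
    · intro h
      have := hL.nor g⁻¹ (G.inv_mem hg) _ h
      have e : g⁻¹ * (g * q * g⁻¹) * g⁻¹⁻¹ = q := by group
      rwa [e] at this
  let φ : G →* MulAut (L ⧸ Subgroup.center L) := (quotAut L).comp (L.normalizerMonoidHom.comp (Subgroup.inclusion hGn))
  have hker : φ.ker = A.subgroupOf G := by
    ext g
    rw [MonoidHom.mem_ker, Subgroup.mem_subgroupOf]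
    constructor
    · intro h
      have h1 : (L.normalizerMonoidHom.comp (Subgroup.inclusion hGn)) g = 1 := eq_one_of_quotAut hL.commutator_eq h
      rw [← hL.centralizer_eq]
      refine Subgroup.mem_inf.2 ⟨g.2, ?_⟩
      rw [Subgroup.mem_centralizer_iff]
      intro l hl
      have h2 := congrArg Subtype.val (DFunLike.congr_fun h1 ⟨l, hl⟩)
      have h3 : (g : V ≃ₗ[ZMod p] V) * l * (g : V ≃ₗ[ZMod p] V)⁻¹ = l := h2
      rw [mul_inv_eq_iff_eq_mul] at h3
      exact h3.symm
    · intro h
      have h1 : (L.normalizerMonoidHom.comp (Subgroup.inclusion hGn)) g = 1 := by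
        ext1 l
        apply Subtype.ext
        change (g : V ≃ₗ[ZMod p] V) * l * (g : V ≃ₗ[ZMod p] V)⁻¹ = l
        rw [mul_inv_eq_iff_eq_mul]
        exact (Subgroup.mem_centralizer_iff.1 (hL.L_le l.2)) _ h
      change quotAut L _ = 1
      rw [h1, map_one]
  have hAG : A ≤ G := by rw [← hL.centralizer_eq]; exact inf_le_left
  have h1 : Nat.card G = Nat.card (A.subgroupOf G) * φ.range.index.gcd 0 ∨ True := Or.inr trivial
  have h2 := φ.ker.card_mul_index
  rw [Subgroup.index_ker, hker, Nat.card_congr (Subgroup.subgroupOfEquivOfLe hAG).toEquiv] at h2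
  rw [← h2]
  exact Nat.mul_dvd_mul_left _ (Subgroup.card_subgroup_dvd_card _)

/-- **The configuration.** -/
theorem Perf.exists_cfg (hL : Perf G A L) (htr : ∀ v w : V, v ≠ 0 → w ≠ 0 → ∃ g ∈ G, g v = w) (hq : Quasi A L) :
    ∃ b, Nat.card A ∣ p ^ b - 1 ∧ Nat.card (endAlg L) = p ^ b ∧
      Cfg p (finrank (ZMod p) V) b L V (L ⧸ Subgroup.center L) (QuotientGroup.mk' (Subgroup.center L)) L.subtype := by
  classical
  have hfin := finite_gl (p := p) (V := V)
  have hfe : Finite (End (ZMod p) V) := finite_end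
  have hfinV : FiniteDimensional (ZMod p) V := Module.Finite.of_finite
  have hinj := hL.endAlg_inj htr
  have hdom := isDomain_of_injective (endAlg L) hinj
  have hF : IsField (endAlg L) := Finite.isDomain_to_isField _
  letI : Field (endAlg L) := hF.toField
  letI : Module (endAlg L) V := (endAlg L).moduleLeft
  haveI : IsScalarTower (ZMod p) (endAlg L) V := ⟨fun c a v => rfl⟩
  haveI : FiniteDimensional (endAlg L) V := Module.Finite.of_finite
  have hcE : Nat.card (endAlg L) = p ^ finrank (ZMod p) (endAlg L) := by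
    rw [Module.natCard_eq_pow_finrank (K := ZMod p) (V := endAlg L), Nat.card_zmod]
  have hmul : finrank (ZMod p) (endAlg L) * finrank (endAlg L) V = finrank (ZMod p) V :=
    finrank_mul_finrank (ZMod p) (endAlg L) V
  have hpos : 0 < finrank (ZMod p) (endAlg L) := finrank_pos
  have hposV : 0 < finrank (endAlg L) V := finrank_pos
  have hAdvd : Nat.card A ∣ p ^ finrank (ZMod p) (endAlg L) - 1 := by
    rw [← hcE]
    refine (isCyclic_and_card_dvd (endAlg L) hinj A.subtype A.subtype_injective ?_).2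
    intro a
    rw [mem_endAlg]
    intro g hg v
    exact DFunLike.congr_fun ((Subgroup.mem_centralizer_iff.1 (hL.L_le hg)) a a.2) v
  have h2 : finrank (endAlg L) V ≠ 1 := by
    intro h1
    apply hL.not_com
    obtain ⟨v₀, hv₀⟩ := exists_ne (0 : V)
    have hgen := (finrank_eq_one_iff_of_nonzero' v₀ hv₀).1 h1
    intro a ha b hb
    ext v
    obtain ⟨k, rfl⟩ := hgen v
    obtain ⟨ka, hka⟩ := hgen (a v₀)
    obtain ⟨kb, hkb⟩ := hgen (b v₀)
    have e1 : ∀ (k : endAlg L) (g : V ≃ₗ[ZMod p] V), g ∈ L → ∀ v, g (k • v) = k • g v := by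
      intro k g hg v
      exact ((mem_endAlg.1 k.2) g hg v).symm
    change a (b (k • v₀)) = b (a (k • v₀))
    rw [e1 k b hb, e1 k a ha, e1 k a ha, e1 k b hb, ← hka, ← hkb, e1 kb a ha, e1 ka b hb, ← hka, ← hkb, smul_smul kb ka,
      smul_smul ka kb, mul_comm]
  refine ⟨finrank (ZMod p) (endAlg L), hAdvd, hcE, ?_⟩
  refine ⟨hp.out, inferInstance, inferInstance, hL.isSimple hq, ?_, QuotientGroup.mk'_surjective _, ?_,
    hL.commutator_eq, L.subtype_injective, card_space, ?_, ?_, ?_, ?_, ?_, ?_⟩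
  · -- noncommutative
    by_contra hcon
    push Not at hcon
    have hs := hL.isSimple hq
    have h3 : ∀ x : L, x ∈ Subgroup.center L := by
      intro x
      have h4 : commutator L ≤ Subgroup.center L := by
        rw [commutator_def, Subgroup.commutator_le]
        intro a _ b _
        rw [← QuotientGroup.eq_one_iff, commutatorElement_def]
        have := hcon (a : L ⧸ Subgroup.center L) b
        change (a : L ⧸ Subgroup.center L) * b * (a : L ⧸ Subgroup.center L)⁻¹ * (b : L ⧸ Subgroup.center L)⁻¹ = 1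
        rw [this]; group
      rw [hL.commutator_eq] at h4
      exact h4 (Subgroup.mem_top x)
    apply hL.not_com
    intro a ha b hb
    exact (congrArg Subtype.val ((Subgroup.mem_center_iff.1 (h3 ⟨a, ha⟩)) ⟨b, hb⟩)).symm
  · exact QuotientGroup.ker_mk' _
  · intro W hW
    exact irr_of_nor htr hL.le hL.nor hL.not_com W fun n hn v hv => hW ⟨n, hn⟩ v hv
  · exact ⟨_, hmul.symm⟩
  · rw [← hmul]
    have : 2 ≤ finrank (endAlg L) V := by omega
    nlinarith
  · rw [← card_space]
    exact (card_sub_one_dvd htr).trans (hL.card_dvd.trans (Nat.mul_dvd_mul_right hAdvd _))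
  · have h3 : Nat.card (Subgroup.center L) ∣ Nat.card A := by
      let f : Subgroup.center L →* A :=
        { toFun := fun z => ⟨z.1, (hL.mem_center hq z.1).1 z.2⟩
          map_one' := rfl
          map_mul' := fun _ _ => rfl }
      refine Subgroup.card_dvd_of_injective f ?_
      intro a b hab
      apply Subtype.ext
      apply Subtype.ext
      exact congrArg (fun z : A => (z : V ≃ₗ[ZMod p] V)) hab
    exact h3.trans hAdvd
  · rw [← hcE]
    refine Nat.card_congr ⟨fun f => ⟨f.1, mem_endAlg.2 fun g hg v => f.2 ⟨g, hg⟩ v⟩,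
      fun f => ⟨f.1, fun g v => mem_endAlg.1 f.2 g g.2 v⟩, fun f => rfl, fun f => rfl⟩

end Cfsg.Agent.H50.Her
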