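import Cfsg.Agent.H50.HerBlk
import Cfsg.Agent.H794.HerDigit

/-!
# Counting the vectors by blocks (helper50, for S3695)

`V` over `ZMod p`, every vector in a block (`hcov`).

* `orb S ρ x v` : the orbit of `v` under `U x`; `card_orb` : it has as many elements as the sphere of the gate;
* `labels` : the `J`-minimal elements have sphere sizes `1, P, P², …, P ^ (a - 1)`, `P = |Vx|`, `a = |W : W_J|`,
  `|V| = P ^ a`.
-/

set_option autoImplicit false
set_option linter.unusedSectionVars false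
set_option linter.style.haveILetI false

namespace Cfsg.Agent.H50.Her

open Cfsg.Agent.Tits.Core Cfsg.Agent.Tits.Core.Bldg Cfsg.Agent.Tits.Exchange Cfsg.Agent.Tits
open Cfsg.Agent.FixBN Cfsg.Agent.FixBN.Cox Cfsg.Agent.Omega.CR Cfsg.Agent.Omega.CR.Bl Cfsg.Agent.H905.DC

variable {I : Type*} {M : CoxeterMatrix I} {W : Type*} [Group W] {cs : CoxeterSystem M W} {C : Type*}
  {Δ : Bldg cs C}

local prefix:100 "ℓ" => cs.length

variable {G : Type*} [Group G] [MulAction G C] {p : ℕ} {S : Sys Δ G p} [F : OppRes.Cox cs]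

include S in
/-- spheres of chambers have the same size -/
theorem card_sph (hth : Δ.Thick) (x y : C) (w : W) :
    Nat.card {z : C // Δ.δ x z = w} = Nat.card {z : C // Δ.δ y z = w} := by
  obtain ⟨g, rfl⟩ := Cfsg.Agent.Omega.ML.LieRow.exists_smul_top S hth x y
  refine Nat.card_congr ⟨fun z => ⟨g • z.1, by rw [S.iso, z.2]⟩, fun z => ⟨g⁻¹ • z.1, by
    rw [← S.iso g, smul_inv_smul, z.2]⟩, fun z => Subtype.ext (inv_smul_smul g z.1),
    fun z => Subtype.ext (smul_inv_smul g z.1)⟩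

include S in
/-- the size of a sphere is a power of `p` -/
theorem exists_card_sph [Fact p.Prime] [Finite C] (x : C) (w : W) : ∃ n, Nat.card {z : C // Δ.δ x z = w} = p ^ n := by
  obtain ⟨y, hy⟩ := Δ.exists_δ x w
  obtain ⟨n, hn⟩ := (S.isP x).card_orbit y
  refine ⟨n, ?_⟩
  rw [← hn]
  refine Nat.card_congr (Equiv.subtypeEquivRight fun z => ?_)
  constructor
  · intro hz
    obtain ⟨u, hu, e⟩ := S.exists_move (x := x) (hy.trans hz.symm)
    exact ⟨⟨u, hu⟩, e⟩
  · rintro ⟨u, rfl⟩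
    change Δ.δ x ((u : G) • y) = w
    rw [S.δ_smul u.2, hy]

section

variable {k V : Type*} [Field k] [AddCommGroup V] [Module k V] {ρ : G →* Module.End k V}

/-- the orbit of `v` under `U x` -/
def orb (S : Sys Δ G p) (ρ : G →* Module.End k V) (x : C) (v : V) : Set V := {w | ∃ u ∈ S.U x, ρ u v = w}

omit F in
theorem self_mem_orb (x : C) (v : V) : v ∈ orb S ρ x v := ⟨1, one_mem _, rho_one ρ v⟩

variable [Fintype C] [Fact p.Prime] [CharP k p] (hth : Δ.Thick) [Finite G] [FiniteDimensional k V]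
  (hirr : ∀ L : Submodule k V, Ivt ρ ⊤ L → L = ⊥ ∨ L = ⊤)

include hth hirr

/-- **The orbit of a vector and the sphere of its gate.** -/
theorem card_orb [Nontrivial V] {x y : C} (hm : IsMinR cs (Jset S ρ) (Δ.δ x y)) {v : V} (hv : v ∈ Vx S ρ y)
    (hv0 : v ≠ 0) : (orb S ρ x v).ncard = Nat.card {z : C // Δ.δ x z = Δ.δ x y} := by
  rw [← Nat.card_coe_set_eq]
  symm
  refine Nat.card_congr (Equiv.ofBijective (fun z => ⟨ρ (mv S x y z.1) v, mv S x y z.1, mv_mem S x y z.1, rfl⟩)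
    ⟨?_, ?_⟩)
  · rintro ⟨z, hz⟩ ⟨z', hz'⟩ h
    have h1 : ρ (mv S x y z) v = ρ (mv S x y z') v := congrArg Subtype.val h
    have h2 : ρ ((mv S x y z')⁻¹ * mv S x y z) v = v := by rw [rho_mul, h1, rho_inv_rho]
    have h3 := gate_fix (S := S) hth hirr hm (mul_mem (inv_mem (mv_mem S x y z')) (mv_mem S x y z)) hv hv0 h2
    rw [mul_smul, inv_smul_eq_iff, mv_smul S hz, mv_smul S hz'] at h3
    exact Subtype.ext h3
  · rintro ⟨_, u, hu, rfl⟩
    have h1 : Δ.δ x (u • y) = Δ.δ x y := S.δ_smul hu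
    refine ⟨⟨u • y, h1⟩, Subtype.ext ?_⟩
    exact val S ρ hv (mv_mem S x y _) hu (mv_smul S h1)

end

section

variable {V : Type*} [AddCommGroup V] [Module (ZMod p) V] {ρ : G →* Module.End (ZMod p) V}
variable [Fintype C] [Fact p.Prime] (hth : Δ.Thick) [Finite G] [Finite V] [Nontrivial V]
  (hirr : ∀ L : Submodule (ZMod p) V, Ivt ρ ⊤ L → L = ⊥ ∨ L = ⊤) (hcov : ∀ v : V, ∃ x, v ∈ Vx S ρ x)

include hth hirr hcov

theorem card_gates (x : C) : Nat.card V - 1 =
    Nat.card {z : C // IsMinR cs (Jset S ρ) (Δ.δ x z)} * (Nat.card (Vx S ρ x) - 1) := by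
  classical
  have hfinV : FiniteDimensional (ZMod p) V := Module.Finite.of_finite
  let Φ : (Σ z : {z : C // IsMinR cs (Jset S ρ) (Δ.δ x z)}, {v : Vx S ρ z.1 // v ≠ 0}) → {v : V // v ≠ 0} :=
    fun a => ⟨a.2.1.1, fun h => a.2.2 (Subtype.ext h)⟩
  have hΦ : Function.Bijective Φ := by
    constructor
    · rintro ⟨⟨z, hz⟩, ⟨⟨v, hv⟩, hv0⟩⟩ ⟨⟨z', hz'⟩, ⟨⟨v', hv'⟩, hv0'⟩⟩ h
      have h1 : v = v' := congrArg Subtype.val h
      subst h1
      have hv1 : v ≠ 0 := fun h => hv0 (Subtype.ext h)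
      have h2 : z = z' := gate_unique (S := S) hth hirr hz hz' (Vx_eq_of_mem (S := S) hth hirr hv hv' hv1)
      subst h2
      rfl
    · rintro ⟨v, hv0⟩
      obtain ⟨y, hy⟩ := hcov v
      obtain ⟨z, hz, hzy⟩ := exists_gate (S := S) hth hirr x y
      exact ⟨⟨⟨z, hz⟩, ⟨⟨v, by rw [hzy]; exact hy⟩, fun h => hv0 (congrArg Subtype.val h)⟩⟩, rfl⟩
  have h1 : ∀ (α : Type _) [AddCommGroup α] [Finite α], Nat.card {v : α // v ≠ 0} = Nat.card α - 1 := by
    intro α _ _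
    have h2 : Nat.card {v : α // v ≠ 0} = ({0}ᶜ : Set α).ncard := by
      rw [← Nat.card_coe_set_eq]
      rfl
    rw [h2, Set.ncard_compl, Set.ncard_singleton]
  rw [← h1 V, ← Nat.card_congr (Equiv.ofBijective Φ hΦ), Nat.card_sigma]
  rw [Finset.sum_congr rfl (g := fun _ => Nat.card (Vx S ρ x) - 1), Finset.sum_const, Finset.card_univ,
    smul_eq_mul, ← Nat.card_eq_fintype_card]
  rintro ⟨z, hz⟩ -
  rw [← h1 (Vx S ρ x)]
  have h3 : Nat.card (Vx S ρ z) = Nat.card (Vx S ρ x) := by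
    rw [Module.natCard_eq_pow_finrank (K := ZMod p) (V := Vx S ρ z),
      Module.natCard_eq_pow_finrank (K := ZMod p) (V := Vx S ρ x), finrank_Vx hth z x]
  have h4 := h1 (Vx S ρ z)
  have h5 := h1 (Vx S ρ x)
  rw [h3] at h4
  exact h4.trans h5.symm

omit hcov in
/-- the number of gates -/
theorem card_gates_eq [Fintype W] [DecidablePred fun w : W => IsMinR cs (Jset S ρ) w] (x : C) :
    Nat.card {z : C // IsMinR cs (Jset S ρ) (Δ.δ x z)} =
      ∑ w ∈ Finset.univ.filter (fun w : W => IsMinR cs (Jset S ρ) w), Nat.card {z : C // Δ.δ x z = w} := by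
  classical
  let Ψ : {z : C // IsMinR cs (Jset S ρ) (Δ.δ x z)} ≃
      Σ w : {w : W // IsMinR cs (Jset S ρ) w}, {z : C // Δ.δ x z = w.1} :=
    { toFun := fun z => ⟨⟨Δ.δ x z.1, z.2⟩, ⟨z.1, rfl⟩⟩
      invFun := fun a => ⟨a.2.1, by rw [a.2.2]; exact a.1.2⟩
      left_inv := fun _ => rfl
      right_inv := by
        rintro ⟨⟨w, hw⟩, ⟨z, hz⟩⟩
        change Δ.δ x z = w at hz
        subst hz
        rfl }
  rw [Nat.card_congr Ψ, Nat.card_sigma]
  rw [Finset.sum_subtype (Finset.univ.filter (fun w : W => IsMinR cs (Jset S ρ) w))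
    (p := fun w => IsMinR cs (Jset S ρ) w) (by intro w; simp)]

omit hcov in
theorem card_minR_le [Fintype W] [DecidablePred fun w : W => IsMinR cs (Jset S ρ) w] :
    (Finset.univ.filter (fun w : W => IsMinR cs (Jset S ρ) w)).card ≤ (WJ cs (Jset S ρ)).index := by
  classical
  rw [← Fintype.card_subtype, ← Nat.card_eq_fintype_card]
  refine Nat.card_le_card_of_injective
    (fun w : {w : W // IsMinR cs (Jset S ρ) w} => (QuotientGroup.mk w.1 : W ⧸ WJ cs (Jset S ρ))) ?_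
  rintro ⟨w, hw⟩ ⟨w', hw'⟩ h
  have h1 : w⁻¹ * w' ∈ WJ cs (Jset S ρ) := QuotientGroup.eq.1 h
  have h2 : w'⁻¹ * w ∈ WJ cs (Jset S ρ) := by
    have := inv_mem h1
    rwa [mul_inv_rev, inv_inv] at this
  have h3 := hw _ h1
  have h4 := hw' _ h2
  rw [mul_inv_cancel_left] at h3 h4
  have h5 : ℓ (w⁻¹ * w') = 0 := by omega
  have h6 := cs.length_eq_zero_iff.1 h5
  exact Subtype.ext (inv_mul_eq_one.1 h6)

/-- **The labels.** -/
theorem labels (x : C) : ∃ (a : ℕ) (lab : W → ℕ), (WJ cs (Jset S ρ)).index = a ∧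
    Module.finrank (ZMod p) V = Module.finrank (ZMod p) (Vx S ρ x) * a ∧ 1 ≤ Module.finrank (ZMod p) (Vx S ρ x) ∧
    (∀ w, IsMinR cs (Jset S ρ) w → lab w < a ∧ ∀ y : C, Nat.card {z : C // Δ.δ y z = w} = Nat.card (Vx S ρ x) ^ lab w) ∧
    ∀ j < a, ∃! w, IsMinR cs (Jset S ρ) w ∧ lab w = j := by
  classical
  have hfinV : FiniteDimensional (ZMod p) V := Module.Finite.of_finite
  have hW : Finite W := Finite.of_surjective (Δ.δ x) (Δ.exists_δ x)
  letI := Fintype.ofFinite W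
  have hp := (Fact.out : p.Prime)
  set β := Module.finrank (ZMod p) (Vx S ρ x) with hβ
  have hPc : Nat.card (Vx S ρ x) = p ^ β := by
    rw [Module.natCard_eq_pow_finrank (K := ZMod p) (V := Vx S ρ x), Nat.card_zmod]
  have hVc : Nat.card V = p ^ Module.finrank (ZMod p) V := by
    rw [Module.natCard_eq_pow_finrank (K := ZMod p) (V := V), Nat.card_zmod]
  have hβ1 : 1 ≤ β := by
    rw [Nat.one_le_iff_ne_zero]
    intro h0
    exact Vx_ne_bot' (S := S) (ρ := ρ) x (Submodule.finrank_eq_zero.1 h0)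
  choose n hn using fun w => exists_card_sph (S := S) x w
  have h1 := card_gates (S := S) hth hirr hcov x
  rw [card_gates_eq (S := S) hth hirr x, hPc, hVc] at h1
  -- `β ∣ d`
  have hdvd : β ∣ Module.finrank (ZMod p) V := by
    have h2 : p ^ β - 1 ∣ p ^ Module.finrank (ZMod p) V - 1 := ⟨_, by rw [mul_comm]; exact h1⟩
    have h3 := Nat.gcd_eq_left h2
    rw [Nat.pow_sub_one_gcd_pow_sub_one] at h3
    have h4 : p ^ Nat.gcd β (Module.finrank (ZMod p) V) = p ^ β := by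
      have e1 : 1 ≤ p ^ Nat.gcd β (Module.finrank (ZMod p) V) := Nat.one_le_pow _ _ hp.pos
      have e2 : 1 ≤ p ^ β := Nat.one_le_pow _ _ hp.pos
      omega
    have h5 := Nat.pow_right_injective hp.two_le h4
    rw [← h5]
    exact Nat.gcd_dvd_right _ _
  obtain ⟨a, ha⟩ := hdvd
  have h2 : (∑ j ∈ Finset.range a, p ^ (β * j)) * (p ^ β - 1) = p ^ (β * a) - 1 := by
    have h3 := Nat.geomSum_eq (m := p ^ β) (by
      calc 2 ≤ p := hp.two_le
        _ = p ^ 1 := (pow_one p).symm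
        _ ≤ p ^ β := Nat.pow_le_pow_right hp.pos hβ1) a
    have h4 : ∑ j ∈ Finset.range a, p ^ (β * j) = ∑ k ∈ Finset.range a, (p ^ β) ^ k :=
      Finset.sum_congr rfl fun j _ => by rw [pow_mul]
    rw [h4, h3, pow_mul]
    exact Nat.div_mul_cancel (by simpa using Nat.sub_dvd_pow_sub_pow (p ^ β) 1 a)
  have hpos : 0 < p ^ β - 1 := by
    have : p ^ 1 ≤ p ^ β := Nat.pow_le_pow_right hp.pos hβ1
    rw [pow_one] at this
    have := hp.two_le
    omega
  have h3 : ∑ w ∈ Finset.univ.filter (fun w : W => IsMinR cs (Jset S ρ) w), p ^ n w =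
      ∑ j ∈ Finset.range a, p ^ (β * j) := by
    apply Nat.eq_of_mul_eq_mul_right hpos
    rw [h2, ← ha, h1]
    congr 1
    exact Finset.sum_congr rfl fun w _ => (hn w).symm
  have hidx := index_mul_le (S := S) hth hirr x
  rw [← hβ, ha, mul_comm] at hidx
  have hidx' : (WJ cs (Jset S ρ)).index ≤ a := Nat.le_of_mul_le_mul_left hidx (by omega)
  have hle := card_minR_le (S := S) hth hirr
  obtain ⟨h4, f, hf, hf'⟩ := Cfsg.Agent.H794.HerDigit.digit_sum hp.two_le _ n (hle.trans hidx') h3 hβ1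
  refine ⟨a, f, by omega, ha, hβ1, ?_, ?_⟩
  · intro w hw
    obtain ⟨h5, h6⟩ := hf w (by simp [hw])
    refine ⟨h5, fun y => ?_⟩
    rw [card_sph (S := S) hth y x, hn, h6, hPc, pow_mul]
  · intro j hj
    obtain ⟨w, ⟨hw1, hw2⟩, hw3⟩ := hf' j hj
    refine ⟨w, ⟨by simpa using hw1, hw2⟩, ?_⟩
    rintro w' ⟨h5, h6⟩
    exact hw3 w' ⟨by simp [h5], h6⟩

end

end Cfsg.Agent.H50.Her
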