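import Cfsg.Agent.H50.HerFlag

/-!
# The panel theorem (helper50, for S3695)

* `card_panel` : if `s_k` acts nontrivially on the cosets of `W_J`, then the panels of type `k` have `P + 1` chambers,
  `P = |Vx|`.
-/

set_option autoImplicit false
set_option linter.unusedSectionVars false
set_option linter.style.haveILetI false

namespace Cfsg.Agent.H50.Her

open Cfsg.Agent.Tits.Core Cfsg.Agent.Tits.Core.Bldg Cfsg.Agent.Tits.Exchange Cfsg.Agent.Tits
open Cfsg.Agent.FixBN Cfsg.Agent.FixBN.Cox Cfsg.Agent.Omega.CR Cfsg.Agent.Omega.CR.Bl Cfsg.Agent.H905.DC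

/-- the arithmetic of the panel theorem -/
theorem panel_arith {p β t j m : ℕ} (hp : p.Prime) (hβ : 1 ≤ β)
    (h : (p ^ β) ^ j + (p ^ t + 1) * ((p ^ β) ^ (j + 1) - (p ^ β) ^ j) = p ^ m) : t = β := by
  have hP : 1 ≤ p ^ β := Nat.one_le_pow _ _ hp.pos
  have hP2 : 2 ≤ p ^ β := by
    calc 2 ≤ p := hp.two_le
      _ = p ^ 1 := (pow_one p).symm
      _ ≤ _ := Nat.pow_le_pow_right hp.pos hβ
  have h1 : (p ^ β) ^ (j + 1) - (p ^ β) ^ j = (p ^ β) ^ j * (p ^ β - 1) := by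
    rw [pow_succ, Nat.mul_sub, mul_one]
  rw [h1] at h
  have h2 : (p ^ β) ^ j * (p ^ t * (p ^ β - 1) + p ^ β) = p ^ m := by
    rw [← h]
    obtain ⟨c, hc⟩ : ∃ c, p ^ β = c + 1 := ⟨p ^ β - 1, by omega⟩
    rw [hc, Nat.add_sub_cancel]
    ring
  have h3 : p ^ t * (p ^ β - 1) + p ^ β ∣ p ^ m := ⟨_, by rw [mul_comm]; exact h2.symm⟩
  -- a factor prime to `p` is one
  have key : ∀ X : ℕ, X ∣ p ^ m → ¬ p ∣ X → X = 1 := by
    intro X hX hpX
    obtain ⟨i, -, hi⟩ := (Nat.dvd_prime_pow hp).1 hX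
    rcases Nat.eq_zero_or_pos i with h0 | h0
    · rw [hi, h0, pow_zero]
    · exact absurd (by rw [hi]; exact dvd_pow_self p h0.ne') hpX
  rcases lt_trichotomy t β with hlt | heq | hgt
  · exfalso
    obtain ⟨s, hs⟩ : ∃ s, β = t + (s + 1) := ⟨β - t - 1, by omega⟩
    have h4 : p ^ t * (p ^ β - 1) + p ^ β = p ^ t * (p ^ β - 1 + p ^ (s + 1)) := by
      rw [mul_add, ← pow_add, ← hs]
    rw [h4] at h3
    have h5 : p ^ β - 1 + p ^ (s + 1) ∣ p ^ m := (Dvd.intro_left _ rfl).trans h3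
    have h6 : ¬ p ∣ p ^ β - 1 + p ^ (s + 1) := by
      intro h7
      have h8 : p ∣ p ^ β - 1 := (Nat.dvd_add_left (dvd_pow_self p (Nat.succ_ne_zero s))).1 h7
      have h9 : p ∣ p ^ β := dvd_pow_self p (by omega)
      have h10 : p ∣ 1 := by
        have := Nat.dvd_sub h9 h8
        rwa [Nat.sub_sub_self hP] at this
      exact hp.one_lt.ne' (Nat.dvd_one.1 h10)
    have h7 := key _ h5 h6
    have h8 : 1 ≤ p ^ (s + 1) := Nat.one_le_pow _ _ hp.pos
    omega
  · exact heq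
  · exfalso
    obtain ⟨s, hs⟩ : ∃ s, t = β + (s + 1) := ⟨t - β - 1, by omega⟩
    have h4 : p ^ t * (p ^ β - 1) + p ^ β = p ^ β * (p ^ (s + 1) * (p ^ β - 1) + 1) := by
      rw [hs, pow_add]; ring
    rw [h4] at h3
    have h5 : p ^ (s + 1) * (p ^ β - 1) + 1 ∣ p ^ m := (Dvd.intro_left _ rfl).trans h3
    have h6 : ¬ p ∣ p ^ (s + 1) * (p ^ β - 1) + 1 := by
      intro h7
      have h8 : p ∣ p ^ (s + 1) * (p ^ β - 1) := (dvd_pow_self p (Nat.succ_ne_zero s)).mul_right _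
      have h9 : p ∣ 1 := (Nat.dvd_add_right h8).1 h7
      exact hp.one_lt.ne' (Nat.dvd_one.1 h9)
    have h7 := key _ h5 h6
    have h8 : 0 < p ^ (s + 1) * (p ^ β - 1) := Nat.mul_pos (pow_pos hp.pos _) (by omega)
    omega

variable {I : Type*} {M : CoxeterMatrix I} {W : Type*} [Group W] {cs : CoxeterSystem M W} {C : Type*}
  {Δ : Bldg cs C}

local prefix:100 "ℓ" => cs.length

variable {G : Type*} [Group G] [MulAction G C] {p : ℕ} {S : Sys Δ G p} [F : OppRes.Cox cs]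
variable {V : Type*} [AddCommGroup V] [Module (ZMod p) V] {ρ : G →* Module.End (ZMod p) V}
variable [Fintype C] [Fact p.Prime] (hth : Δ.Thick) [Finite G] [Finite V] [Nontrivial V]
  (hirr : ∀ L : Submodule (ZMod p) V, Ivt ρ ⊤ L → L = ⊥ ∨ L = ⊤) (hcov : ∀ v : V, ∃ x, v ∈ Vx S ρ x)
  {a : ℕ} {lab : W → ℕ} {P : ℕ} (hL : Lab S ρ a lab P)

include hth hirr hcov hL

theorem exists_j {k : I} (hk : ∃ w : W, w⁻¹ * cs.simple k * w ∉ WJ cs (Jset S ρ)) {x y : C}
    (hxy : Δ.δ x y = cs.simple k) : ∃ j, j < a ∧ Fl S ρ x (j + 1) ≠ Fl S ρ y (j + 1) ∧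
      Fl S ρ x j = Fl S ρ y j := by
  classical
  have hfinV : FiniteDimensional (ZMod p) V := Module.Finite.of_finite
  have key : ∃ j, j ≤ a ∧ Fl S ρ x j ≠ Fl S ρ y j := by
    by_contra hcon
    push Not at hcon
    have hos : ∀ v : V, v ≠ 0 → (orb S ρ x v).ncard = (orb S ρ y v).ncard := by
      intro v hv0
      obtain ⟨z, hz1, -, hz3⟩ := exists_gate_vec (S := S) hth hirr hcov hL x hv0
      obtain ⟨z', hz1', -, hz3'⟩ := exists_gate_vec (S := S) hth hirr hcov hL y hv0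
      have h1 : ∀ j ≤ a, ((orb S ρ x v).ncard < P ^ j ↔ (orb S ρ y v).ncard < P ^ j) := by
        intro j hj
        rw [← (flag (S := S) hth hirr hcov hL x hj).2.1 v hv0, ← (flag (S := S) hth hirr hcov hL y hj).2.1 v hv0,
          hcon j hj]
      rw [hz3, hz3'] at h1 ⊢
      have h2 := hL.lt _ hz1
      have h3 := hL.lt _ hz1'
      have hP1 : 1 < P := hL.two_le
      have h4 := (h1 (lab (Δ.δ x z) + 1) (by omega)).1 (Nat.pow_lt_pow_right hP1 (by omega))
      have h5 := (h1 (lab (Δ.δ y z') + 1) (by omega)).2 (Nat.pow_lt_pow_right hP1 (by omega))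
      have h6 := (Nat.pow_lt_pow_iff_right hP1).1 h4
      have h7 := (Nat.pow_lt_pow_iff_right hP1).1 h5
      congr 1
      omega
    obtain ⟨w, hw⟩ := hk
    obtain ⟨c, hc, h1, h2⟩ := exists_apt_pair (S := S) x y
    rw [hxy] at h2
    obtain ⟨v, hv, hv0⟩ := (Submodule.ne_bot_iff _).1 (Vx_ne_bot' (S := S) (ρ := ρ) (c w))
    obtain ⟨z, hz1, hz2, hz3⟩ := exists_gate_vec (S := S) hth hirr hcov hL x hv0
    obtain ⟨z', hz1', hz2', hz3'⟩ := exists_gate_vec (S := S) hth hirr hcov hL y hv0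
    have h3 := hos v hv0
    rw [hz3, hz3'] at h3
    have h4 := hL.uniq _ _ hz1 hz1' (Nat.pow_right_injective hL.two_le h3)
    -- cosets
    have e1 : Δ.δ (c w) z ∈ WJ cs (Jset S ρ) :=
      (Vx_eq_iff_mem (S := S) hth hirr _ _).1 (Vx_eq_of_mem (S := S) hth hirr hv hz2 hv0)
    have e2 : Δ.δ (c w) z' ∈ WJ cs (Jset S ρ) :=
      (Vx_eq_iff_mem (S := S) hth hirr _ _).1 (Vx_eq_of_mem (S := S) hth hirr hv hz2' hv0)
    have e3 := Δ.δ_coset x e1
    have e4 := Δ.δ_coset y e2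
    rw [← h1, hc, inv_one, one_mul] at e3
    rw [← h4, ← h2, hc, cs.inv_simple, mul_inv_rev, cs.inv_simple] at e4
    apply hw
    have e5 := mul_mem e4 (inv_mem e3)
    rw [← h1] at e5
    have e6 : w⁻¹ * cs.simple k * Δ.δ (c 1) z * (w⁻¹ * Δ.δ (c 1) z)⁻¹ = w⁻¹ * cs.simple k * w := by group
    rwa [e6] at e5
  -- the minimal one
  have hfind := Nat.find_spec key
  have hmin := fun m (hm : m < Nat.find key) => Nat.find_min key hm
  obtain ⟨j, hj⟩ : ∃ j, Nat.find key = j + 1 := by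
    refine Nat.exists_eq_succ_of_ne_zero ?_
    intro h0
    rw [h0] at hfind
    exact hfind.2 rfl
  rw [hj] at hfind
  refine ⟨j, by omega, hfind.2, ?_⟩
  by_contra hne
  exact hmin j (by omega) ⟨by omega, hne⟩

/-- **The panel theorem.** -/
theorem card_panel {k : I} (hk : ∃ w : W, w⁻¹ * cs.simple k * w ∉ WJ cs (Jset S ρ)) (x : C) :
    Nat.card {y : C // Δ.δ x y = cs.simple k} = P := by
  classical
  have hfinV : FiniteDimensional (ZMod p) V := Module.Finite.of_finite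
  have hp := (Fact.out : p.Prime)
  obtain ⟨y, hxy⟩ := Δ.exists_δ x (cs.simple k)
  obtain ⟨j, hja, hne, heq⟩ := exists_j (S := S) hth hirr hcov hL hk hxy
  -- the same for all adjacent chambers
  have htr : ∀ x' y', Δ.δ x' y' = cs.simple k → Fl S ρ x' (j + 1) ≠ Fl S ρ y' (j + 1) ∧ Fl S ρ x' j = Fl S ρ y' j := by
    have hsub : ∀ (g : G) (z : C) (i : ℕ), Fl S ρ (g • z) i = (Fl S ρ z i).map (ρ g) := by
      intro g z i
      apply le_antisymm
      · intro v hv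
        have h1 := rho_mem_Fl (S := S) g⁻¹ hv
        rw [inv_smul_smul] at h1
        exact ⟨_, h1, rho_rho_inv ρ g v⟩
      · rintro _ ⟨v, hv, rfl⟩
        exact rho_mem_Fl (S := S) g hv
    intro x' y' h'
    obtain ⟨g, rfl, rfl⟩ := exists_smul_pair (S := S) hth (hxy.trans h'.symm)
    rw [hsub, hsub, hsub, hsub, heq]
    refine ⟨fun h => hne ?_, rfl⟩
    exact Submodule.map_injective_of_injective (rhoEquiv ρ g).injective h
  set F0 := Fl S ρ x j with hF0
  have hPan : ∀ z ∈ Δ.Pan k x, Fl S ρ z j = F0 := by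
    intro z hz
    rcases hz with rfl | hz
    · rfl
    · exact (htr x z hz).2.symm
  have hF0c : Nat.card F0 = P ^ j := (flag (S := S) hth hirr hcov hL x hja.le).1
  have hFc : ∀ z, Nat.card (Fl S ρ z (j + 1)) = P ^ (j + 1) := fun z =>
    (flag (S := S) hth hirr hcov hL z (by omega : j + 1 ≤ a)).1
  have hF0le : ∀ z ∈ Δ.Pan k x, F0 ≤ Fl S ρ z (j + 1) := fun z hz => by
    rw [← hPan z hz]
    exact Fl_mono_succ z j
  -- the kernel of the action on the panel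
  have hker : ∀ u ∈ S.U x, (∀ z ∈ Δ.Pan k x, u • z = z) → ∀ z ∈ Δ.Pan k x, ∀ v ∈ Fl S ρ z (j + 1),
      ρ u v - v ∈ F0 := by
    intro u hu hfix z hz v hv
    have h1 := S.mem_U_of_fix hu (hfix z hz)
    rw [← hPan z hz]
    exact hv u h1
  -- the sum
  set R : Submodule (ZMod p) V := ⨆ z : Δ.Pan k x, Fl S ρ z.1 (j + 1) with hR
  have hRker : ∀ u ∈ S.U x, (∀ z ∈ Δ.Pan k x, u • z = z) → ∀ v ∈ R, ρ u v - v ∈ F0 := by
    intro u hu hfix
    have h1 : R ≤ F0.comap (ρ u - 1) := by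
      refine iSup_le fun z => ?_
      intro v hv
      exact hker u hu hfix z.1 z.2 v hv
    exact fun v hv => h1 hv
  -- the sum is the union
  have hunion : ∀ v ∈ R, ∃ z ∈ Δ.Pan k x, v ∈ Fl S ρ z (j + 1) := by
    intro v hv
    by_cases hv0 : v = 0
    · exact ⟨x, Δ.self_mem_Pan k x, by rw [hv0]; exact zero_mem _⟩
    -- a pair at minimal distance
    have hex : ∃ n, ∃ x' ∈ Δ.Pan k x, ∃ z, v ∈ Vx S ρ z ∧ ℓ (Δ.δ x' z) = n := by
      obtain ⟨z, hz⟩ := hcov v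
      exact ⟨_, x, Δ.self_mem_Pan k x, z, hz, rfl⟩
    obtain ⟨x', hx', z, hz, hlen⟩ := Nat.find_spec hex
    have hmin : ∀ x'' ∈ Δ.Pan k x, ∀ z', v ∈ Vx S ρ z' → ℓ (Δ.δ x' z) ≤ ℓ (Δ.δ x'' z') := by
      intro x'' h1 z' h2
      rw [hlen]
      exact Nat.find_min' hex ⟨x'', h1, z', h2, rfl⟩
    have hzm : IsMinR cs (Jset S ρ) (Δ.δ x' z) := by
      rw [isMinR_iff]
      intro i hi
      obtain ⟨z', h1, h2⟩ := Δ.exists_step x' z i
      have h3 : v ∈ Vx S ρ z' := by rw [← hi z z' h1]; exact hz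
      have h4 := hmin x' hx' z' h3
      rw [h2] at h4
      exact lt_of_le_of_ne h4 (cs.length_mul_simple_ne _ i).symm
    have hPx : Δ.Pan k x' = Δ.Pan k x := Δ.Pan_eq_of_mem hx'
    have hup : ℓ (Δ.δ x' z) < ℓ (cs.simple k * Δ.δ x' z) := by
      have hle : ℓ (Δ.δ x' z) ≤ ℓ (cs.simple k * Δ.δ x' z) := by
        by_contra hlt
        push Not at hlt
        obtain ⟨x'', h1, h2⟩ := exists_first Δ hlt
        have h3 := hmin x'' (by rw [← hPx]; exact Δ.mem_Pan_of_δ h1) z hz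
        rw [h2] at h3
        omega
      exact lt_of_le_of_ne hle (cs.length_simple_mul_ne _ k).symm
    have hoth : ∀ y' ∈ Δ.Pan k x, y' ≠ x' → Δ.δ y' z = cs.simple k * Δ.δ x' z := by
      intro y' h1 h2
      exact Δ.step_lt_left (Δ.δ_eq_of_mem_Pan h1 hx' h2) hup
    -- the orbit of `v` under `U x'` is the orbit under the kernel
    obtain ⟨y', hy'⟩ := Δ.exists_δ x' (cs.simple k)
    have hy'P : y' ∈ Δ.Pan k x := by rw [← hPx]; exact Δ.mem_Pan_of_δ hy'
    have hy'ne : y' ≠ x' := (Δ.ne_of_δ_simple hy').symm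
    have horb : ∀ u ∈ S.U x', ρ u v - v ∈ F0 := by
      intro u hu
      have h1 : Δ.δ x' (u • y') = cs.simple k := by rw [S.δ_smul hu, hy']
      have h2 : u • y' ∈ Δ.Pan k x := by rw [← hPx]; exact Δ.mem_Pan_of_δ h1
      have h3 : u • y' ≠ x' := (Δ.ne_of_δ_simple h1).symm
      have h4 : Δ.δ z y' = Δ.δ z (u • y') := by
        rw [Δ.symm y' z, Δ.symm (u • y') z, hoth y' hy'P hy'ne, hoth _ h2 h3]
      obtain ⟨b, hb, hby⟩ := S.exists_move h4
      have h5 : b • x' ∈ Δ.Pan k x := by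
        have h6 : Δ.δ (b • x') (b • y') = cs.simple k := by rw [S.iso, hy']
        have h7 : b • x' ∈ Δ.Pan k (b • y') := Δ.mem_Pan_of_δ (Δ.δ_symm_simple h6)
        rw [hby] at h7
        rw [← Δ.Pan_eq_of_mem h2]
        exact h7
      have h6 : b • x' = x' := by
        by_contra h7
        have h8 := hoth _ h5 h7
        have h9 : Δ.δ (b • x') z = Δ.δ x' z := by
          rw [Δ.symm z (b • x'), S.δ_smul hb, ← Δ.symm]
        rw [h9] at h8
        rw [← h8] at hup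
        exact lt_irrefl _ hup
      have h7 := S.mem_U_of_fix hb h6
      have h8 : u * b⁻¹ ∈ S.U x' := mul_mem hu (inv_mem h7)
      have h9 : (u * b⁻¹) • (u • y') = u • y' := by
        rw [mul_smul, ← hby, inv_smul_smul, hby]
      have h10 := S.pan x' (u • y') k h1 _ h8 h9
      rw [hPx] at h10
      have h11 : u * b⁻¹ ∈ S.U x := S.mem_U_of_fix h8 (h10 x (Δ.self_mem_Pan k x))
      have h12 := hRker _ h11 h10 v hv
      have h13 : ρ u v = ρ (u * b⁻¹) v := by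
        have h14 : ρ b v = v := hz b hb
        conv_rhs => rw [← h14]
        rw [← rho_mul, inv_mul_cancel_right]
      rw [h13]
      exact h12
    refine ⟨x', hx', ?_⟩
    intro u hu
    rw [hPan x' hx']
    exact horb u hu
  -- pairwise intersections
  have hinter : ∀ z ∈ Δ.Pan k x, ∀ z' ∈ Δ.Pan k x, z ≠ z' → Fl S ρ z (j + 1) ⊓ Fl S ρ z' (j + 1) ≤ F0 := by
    intro z hz z' hz' hzz
    have hd := Δ.δ_eq_of_mem_Pan hz hz' hzz
    obtain ⟨c, hc, h1, h2⟩ := exists_apt_pair (S := S) z z'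
    obtain ⟨w, hw1, hw2⟩ := hL.ex j hja
    have hg : Δ.δ z (c w) = w := by rw [← h1, hc, inv_one, one_mul]
    obtain ⟨h3, h4⟩ := (flag (S := S) hth hirr hcov hL z (by omega : j + 1 ≤ a)).2.2 j rfl (c w)
      (by rw [hg]; exact hw1) (by rw [hg]; exact hw2)
    rw [hPan z hz] at h3 h4
    have hinv : ∀ g : G, (∀ v, g • c v = c v) → ∀ q ∈ Fl S ρ z' (j + 1) ⊓ Vx S ρ (c w),
        ρ g q ∈ Fl S ρ z' (j + 1) ⊓ Vx S ρ (c w) := by
      intro g hg q hq
      have hx : g • z' = z' := by rw [← h2]; exact hg _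
      have e1 := rho_mem_Vx S ρ g hq.2
      rw [hg w] at e1
      exact ⟨rho_mem_Fl_of_fix (S := S) hx hq.1, e1⟩
    rcases irr_apt (S := S) hth hirr hc w (Q := Fl S ρ z' (j + 1) ⊓ Vx S ρ (c w)) inf_le_right hinv with h5 | h5
    · intro q hq
      have hq1 : q ∈ F0 ⊔ Vx S ρ (c w) := by rw [← h3]; exact hq.1
      obtain ⟨f, hf, m, hm, rfl⟩ := Submodule.mem_sup.1 hq1
      have h6 : m ∈ Fl S ρ z' (j + 1) ⊓ Vx S ρ (c w) := by
        refine ⟨?_, hm⟩
        have h7 : m = (f + m) - f := by abel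
        rw [h7]
        exact sub_mem hq.2 (hF0le z' hz' hf)
      rw [h5, Submodule.mem_bot] at h6
      rw [h6, add_zero]
      exact hf
    · exfalso
      apply (htr z z' hd).1
      have h6 : Fl S ρ z (j + 1) ≤ Fl S ρ z' (j + 1) := by
        rw [h3]
        refine sup_le (hF0le z' hz') ?_
        rw [← h5]
        exact inf_le_left
      refine Submodule.eq_of_le_of_finrank_le h6 (le_of_eq ?_)
      have e1 := hFc z
      have e2 := hFc z'
      rw [Module.natCard_eq_pow_finrank (K := ZMod p) (V := Fl S ρ z (j + 1)), Nat.card_zmod] at e1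
      rw [Module.natCard_eq_pow_finrank (K := ZMod p) (V := Fl S ρ z' (j + 1)), Nat.card_zmod] at e2
      exact Nat.pow_right_injective hp.two_le (e2.trans e1.symm)
  -- counting
  have hcount : Nat.card R = P ^ j + Nat.card (Δ.Pan k x) * (P ^ (j + 1) - P ^ j) := by
    let Φ : (Σ z : Δ.Pan k x, {v : Fl S ρ z.1 (j + 1) // v.1 ∉ F0}) → {v : R // v.1 ∉ F0} := fun b =>
      ⟨⟨b.2.1.1, (le_iSup (fun z : Δ.Pan k x => Fl S ρ z.1 (j + 1)) b.1) b.2.1.2⟩, b.2.2⟩
    have hΦ : Function.Bijective Φ := by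
      constructor
      · rintro ⟨⟨z, hz⟩, ⟨⟨v, hv⟩, hv0⟩⟩ ⟨⟨z', hz'⟩, ⟨⟨v', hv'⟩, hv0'⟩⟩ h
        have h1 : v = v' := congrArg (fun b => b.1.1) h
        subst h1
        have h2 : z = z' := by
          by_contra hzz
          exact hv0 (hinter z hz z' hz' hzz ⟨hv, hv'⟩)
        subst h2
        rfl
      · rintro ⟨⟨v, hv⟩, hv0⟩
        obtain ⟨z, hz, hvz⟩ := hunion v hv
        exact ⟨⟨⟨z, hz⟩, ⟨⟨v, hvz⟩, hv0⟩⟩, rfl⟩
    have hsub : ∀ Q : Submodule (ZMod p) V, F0 ≤ Q → Nat.card {v : Q // v.1 ∉ F0} + P ^ j = Nat.card Q := by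
      intro Q hQ
      have e1 : Nat.card {v : Q // v.1 ∈ F0} = P ^ j := by
        rw [← hF0c]
        exact Nat.card_congr ⟨fun v => ⟨v.1.1, v.2⟩, fun v => ⟨⟨v.1, hQ v.2⟩, v.2⟩, fun _ => rfl, fun _ => rfl⟩
      rw [← e1, add_comm, ← Nat.card_sum]
      exact Nat.card_congr (Equiv.sumCompl (fun v : Q => v.1 ∈ F0))
    have hFR : F0 ≤ R := (hF0le x (Δ.self_mem_Pan k x)).trans
      (le_iSup (fun z : Δ.Pan k x => Fl S ρ z.1 (j + 1)) ⟨x, Δ.self_mem_Pan k x⟩)
    rw [← hsub R hFR, ← Nat.card_congr (Equiv.ofBijective Φ hΦ), Nat.card_sigma,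
      Finset.sum_congr rfl (g := fun _ => P ^ (j + 1) - P ^ j), Finset.sum_const, Finset.card_univ, smul_eq_mul,
      ← Nat.card_eq_fintype_card, add_comm]
    rintro ⟨z, hz⟩ -
    have h1 := hsub (Fl S ρ z (j + 1)) (hF0le z hz)
    rw [hFc z] at h1
    change Nat.card {v : Fl S ρ z (j + 1) // v.1 ∉ F0} = _
    omega
  -- the number of chambers of the panel
  have hpan : Nat.card (Δ.Pan k x) = Nat.card {y : C // Δ.δ x y = cs.simple k} + 1 := by
    have h4 : Δ.Pan k x = insert x {y : C | Δ.δ x y = cs.simple k} := by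
      ext z
      rw [Set.mem_insert_iff]
      rfl
    have h5 : x ∉ {y : C | Δ.δ x y = cs.simple k} := by
      change ¬ (Δ.δ x x = cs.simple k)
      rw [Δ.δ_self]
      exact fun h => Trace.simple_ne_one k h.symm
    rw [h4, Nat.card_coe_set_eq, Set.ncard_insert_of_notMem h5, ← Nat.card_coe_set_eq]
    rfl
  obtain ⟨t, ht⟩ := exists_card_sph (S := S) x (cs.simple k)
  have hPβ : P = p ^ Module.finrank (ZMod p) (Vx S ρ x) := by
    rw [← hL.card_Vx x, Module.natCard_eq_pow_finrank (K := ZMod p) (V := Vx S ρ x), Nat.card_zmod]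
  have hβ : 1 ≤ Module.finrank (ZMod p) (Vx S ρ x) := by
    rw [Nat.one_le_iff_ne_zero]
    intro h0
    have := hL.two_le
    rw [hPβ, h0, pow_zero] at this
    omega
  rw [hpan, ht, Module.natCard_eq_pow_finrank (K := ZMod p) (V := R), Nat.card_zmod, hPβ] at hcount
  rw [ht, hPβ, panel_arith hp hβ hcount.symm]

end Cfsg.Agent.H50.Her
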