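import Cfsg.Agent.H50.HerLen
import Cfsg.Agent.H50.HerPanel
import Cfsg.Agent.H905.DCIndex
import Cfsg.Agent.H905.DCMain
import Cfsg.Agent.LieRecognition.CoxForm

/-!
# Reflections act nontrivially on the cosets of parabolic subgroups; `J` is proper (helper50, for S3695)
-/

set_option autoImplicit false
set_option linter.unusedSectionVars false

namespace Cfsg.Agent.H50.Her

open Module
open Cfsg.Agent.ChevalleyStructure.CoxeterGeom Cfsg.Agent.Nodes.Reps Cfsg.Agent.Tits.Roots
open Cfsg.Agent.Tits.Core Cfsg.Agent.Tits.Core.Bldg Cfsg.Agent.Tits.Exchange Cfsg.Agent.Tits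
open Cfsg.Agent.FixBN Cfsg.Agent.FixBN.Cox Cfsg.Agent.Omega.CR Cfsg.Agent.Omega.CR.Bl Cfsg.Agent.H905.DC

/-- In a connected crystallographic Coxeter group every simple reflection acts nontrivially on the cosets of a proper
parabolic subgroup. -/
theorem exists_conj_not_mem {I W : Type*} [Fintype I] [DecidableEq I] [Group W] {M : CoxeterMatrix I}
    (cs : CoxeterSystem M W) {A : I → I → ℤ} (h : IsCartan M A) (hc : KFacts.RgdCharP.Conn M) {J : Set I}
    (hJ : J ≠ Set.univ) (k : I) : ∃ w : W, w⁻¹ * cs.simple k * w ∉ WJ cs J := by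
  obtain ⟨i, hi⟩ : ∃ i, i ∉ J := by
    by_contra hcon
    push Not at hcon
    exact hJ (Set.eq_univ_of_forall hcon)
  have hall : ∀ j, ∃ j', NB A i j j' := by
    by_contra hcon
    push Not at hcon
    obtain ⟨j, hj⟩ := hcon
    obtain ⟨a, ha, b, hb, hab⟩ := hc {j | ∃ j', NB A i j j'} ⟨i, i, NB.start⟩ (fun h1 => by
      have h2 : j ∈ {j | ∃ j', NB A i j j'} := by rw [h1]; trivial
      obtain ⟨j', h3⟩ := h2
      exact hj j' h3)
    obtain ⟨a', ha'⟩ := ha
    apply hb
    have hne : b ≠ a := fun e => hb (e ▸ ⟨a', ha'⟩)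
    refine ⟨a, NB.step ha' ?_ hne ?_⟩
    · intro h0
      apply hab
      rcases h.rel a b (Ne.symm hne) with ⟨e, -, -⟩ | ⟨-, e, -⟩ | ⟨-, ⟨e, -⟩ | ⟨e, -⟩⟩ | ⟨-, ⟨e, -⟩ | ⟨e, -⟩⟩
      · exact e
      all_goals rw [h0] at e; norm_num at e
    · intro e
      exact hb (e ▸ ha'.prev)
  obtain ⟨j', hj'⟩ := hall k
  obtain ⟨w, h1, -, -⟩ := hj'.exists_w cs h
  refine ⟨w⁻¹, fun hmem => ?_⟩
  rw [inv_inv] at hmem
  have h2 := co_mul_left cs h hi hmem w
  rw [show w * cs.simple k * w⁻¹ * w = w * cs.simple k by group, co_mul_simple] at h2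
  have h3 := congrFun h2 k
  change co cs h i w k - A k k * co cs h i w k = co cs h i w k at h3
  rw [h.diag] at h3
  omega

/-- rank two, `m ≥ 3` -/
theorem exists_conj_not_mem_two {W : Type*} [Group W] [Finite W] {M : CoxeterMatrix (Fin 2)} (cs : CoxeterSystem M W)
    (hM : 3 ≤ M 0 1) {J : Set (Fin 2)} (hJ : J ≠ Set.univ) (k : Fin 2) :
    ∃ w : W, w⁻¹ * cs.simple k * w ∉ WJ cs J := by
  by_contra hcon
  push Not at hcon
  obtain ⟨i, hi⟩ : ∃ i, i ∉ J := by
    by_contra hcon
    push Not at hcon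
    exact hJ (Set.eq_univ_of_forall hcon)
  have hJ1 : ∀ w ∈ WJ cs J, w = 1 ∨ w = cs.simple (1 - i) := by
    intro w hw
    unfold WJ at hw
    induction hw using Subgroup.closure_induction with
    | mem x hx =>
      obtain ⟨j, hj, rfl⟩ := hx
      right
      have : j ≠ i := fun e => hi (e ▸ hj)
      congr 1
      omega
    | one => exact Or.inl rfl
    | mul x y _ _ hx hy =>
      rcases hx with rfl | rfl <;> rcases hy with rfl | rfl
      · left; rw [mul_one]
      · right; rw [one_mul]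
      · right; rw [mul_one]
      · left; exact cs.simple_mul_simple_self _
    | inv x _ hx =>
      rcases hx with rfl | rfl
      · left; exact inv_one
      · right; exact cs.inv_simple _
  have h1 : ∀ w : W, w⁻¹ * cs.simple k * w = cs.simple (1 - i) := by
    intro w
    rcases hJ1 _ (hcon w) with h2 | h2
    · exfalso
      have h3 : cs.simple k = 1 := by
        calc cs.simple k = w * (w⁻¹ * cs.simple k * w) * w⁻¹ := by group
          _ = 1 := by rw [h2]; group
      exact Trace.simple_ne_one k h3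
    · exact h2
  have h2 : ∀ w : W, cs.simple k * w = w * cs.simple k := by
    intro w
    have h3 := h1 w
    rw [← h1 1] at h3
    have h4 : cs.simple k = w⁻¹ * cs.simple k * w := by rw [h3]; group
    calc cs.simple k * w = w * (w⁻¹ * cs.simple k * w) := by group
      _ = w * cs.simple k := by rw [← h4]
  have h3 := h2 (cs.simple (1 - k))
  have h4 : (cs.simple k * cs.simple (1 - k)) ^ 2 = 1 := by
    rw [pow_two]
    calc cs.simple k * cs.simple (1 - k) * (cs.simple k * cs.simple (1 - k))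
        = cs.simple k * cs.simple (1 - k) * (cs.simple (1 - k) * cs.simple k) := by rw [h3]
      _ = cs.simple k * (cs.simple (1 - k) * cs.simple (1 - k)) * cs.simple k := by group
      _ = 1 := by rw [cs.simple_mul_simple_self, mul_one, cs.simple_mul_simple_self]
  have h5 : M k (1 - k) ∣ 2 := by
    rw [← Cfsg.Agent.LieRecognition.CoxForm.orderOf_eq cs k (1 - k)]
    exact orderOf_dvd_of_pow_eq_one h4
  have h6 : M k (1 - k) = M 0 1 := by
    fin_cases k
    · rfl
    · exact M.symmetric 1 0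
  rw [h6] at h5
  have := Nat.le_of_dvd (by norm_num) h5
  omega

section

variable {I : Type*} {M : CoxeterMatrix I} {W : Type*} [Group W] {cs : CoxeterSystem M W} [F : OppRes.Cox cs]
  {C : Type*} {Δ : Bldg cs C} {G : Type*} [Group G] [MulAction G C] {p : ℕ} {S : Sys Δ G p}
  {V : Type*} [AddCommGroup V] [Module (ZMod p) V] {ρ : G →* Module.End (ZMod p) V}
variable [Fintype C] [Fact p.Prime] (hth : Δ.Thick) [Finite G] [Finite V] [Nontrivial V]
  (hirr : ∀ L : Submodule (ZMod p) V, Ivt ρ ⊤ L → L = ⊥ ∨ L = ⊤)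

include hth in
theorem U_ne_bot [Nonempty I] (x : C) : ∃ u ∈ S.U x, u ≠ 1 := by
  obtain ⟨i⟩ := (inferInstance : Nonempty I)
  obtain ⟨y, z, hne, hy, hz⟩ := hth x i
  obtain ⟨a, ha, e⟩ := S.exists_move (x := x) (z := y) (z' := z) (hy.trans hz.symm)
  refine ⟨a, ha, fun h => hne ?_⟩
  rw [← e, h, one_smul]

include hth hirr in
/-- `J` is proper -/
theorem Jset_ne_univ [Nonempty I] (hinj : Function.Injective ρ) (x : C) : Jset S ρ ≠ Set.univ := by
  intro hJ
  obtain ⟨hN, hs⟩ := exists_stb_Vx (S := S) hth hirr x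
  have h1 := hN.iSup_opp hth hs hirr x
  have hall : ∀ z, Vx S ρ z = Vx S ρ x := by
    intro z
    rw [Vx_eq_iff_mem (S := S) hth hirr, hJ]
    rw [show WJ cs (Set.univ : Set I) = ⊤ from OppRes.WJ_univ]
    trivial
  have h2 : Vx S ρ x = ⊤ := by
    rw [eq_top_iff, ← h1]
    exact iSup_le fun z => (hall z).le
  obtain ⟨u, hu, hne⟩ := U_ne_bot (S := S) hth x
  apply hne
  apply hinj
  rw [map_one]
  refine LinearMap.ext fun v => ?_
  have h3 : v ∈ Vx S ρ x := by rw [h2]; trivial
  exact h3 u hu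

omit [Fintype C] [Fact p.Prime] [Finite G] [Finite V] [Nontrivial V] in
theorem isMinR_simple {J : Set I} {i : I} (hi : i ∉ J) : IsMinR cs J (cs.simple i) := by
  rw [isMinR_iff]
  intro j hj
  have hne : i ≠ j := fun e => hi (e ▸ hj)
  rcases cs.length_mul_simple (cs.simple i) j with h | h
  · omega
  · exfalso
    rw [cs.length_simple] at h
    have h1 : cs.length (cs.simple i * cs.simple j) = 0 := by omega
    rw [cs.length_eq_zero_iff] at h1
    have h2 : cs.simple i = cs.simple j := by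
      calc cs.simple i = cs.simple i * cs.simple j * cs.simple j := by
            rw [mul_assoc, cs.simple_mul_simple_self, mul_one]
        _ = cs.simple j := by rw [h1, one_mul]
    exact hne (F.inj h2)

theorem card_U [Finite W] (x : C) : Nat.card (S.U x) = Nat.card {z : C // Δ.δ x z = w0 cs} := by
  obtain ⟨y, hxy⟩ : ∃ y, Δ.Opp x y := Opp.exists_opp Δ x
  refine Nat.card_congr (Equiv.ofBijective (fun u => ⟨u.1 • y, ?_⟩) ⟨?_, ?_⟩)
  · have := S.iso u.1 x y
    rw [S.fix x u.1 u.2] at this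
    rw [this]
    exact hxy
  · intro u u' h
    have h1 : u.1 • y = u'.1 • y := congrArg Subtype.val h
    have h2 := S.free x y hxy (u'.1⁻¹ * u.1) (mul_mem (inv_mem u'.2) u.2) (by rw [mul_smul, h1, inv_smul_smul])
    exact Subtype.ext (inv_mul_eq_one.1 h2).symm
  · rintro ⟨z, hz⟩
    obtain ⟨u, hu, e⟩ := S.trans x y z hxy hz
    exact ⟨⟨u, hu⟩, Subtype.ext e⟩

end

end Cfsg.Agent.H50.Her
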