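import Cfsg.Agent.H50.HerCnt

/-!
# The flags (helper50, for S3695)

* `Lab S ρ a lab P` : the labels;
* `Fl S ρ x j` : the upper central series of `U x` in `V`;
* `flag` : for `j ≤ a` a nonzero vector `v` is in `Fl x j` iff `|orb x v| < P ^ j`, and `|Fl x j| = P ^ j`.
-/

set_option autoImplicit false
set_option linter.unusedSectionVars false
set_option linter.style.haveILetI false

namespace Cfsg.Agent.H50.Her

open Cfsg.Agent.Tits.Core Cfsg.Agent.Tits.Core.Bldg Cfsg.Agent.Tits.Exchange Cfsg.Agent.Tits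
open Cfsg.Agent.FixBN Cfsg.Agent.FixBN.Cox Cfsg.Agent.Omega.CR Cfsg.Agent.Omega.CR.Bl Cfsg.Agent.H905.DC

variable {I : Type*} {M : CoxeterMatrix I} {W : Type*} [Group W] {cs : CoxeterSystem M W} {C : Type*}
  {Δ : Bldg cs C}

local prefix:100 "ℓ" => cs.length

variable {G : Type*} [Group G] [MulAction G C] {p : ℕ} {S : Sys Δ G p} [F : OppRes.Cox cs]

/-- The labels of the `J`-minimal elements. -/
structure Lab {k V : Type*} [Field k] [AddCommGroup V] [Module k V] (S : Sys Δ G p) (ρ : G →* Module.End k V)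
    (a : ℕ) (lab : W → ℕ) (P : ℕ) : Prop where
  two_le : 2 ≤ P
  card_Vx : ∀ x, Nat.card (Vx S ρ x) = P
  card_V : Nat.card V = P ^ a
  index : (WJ cs (Jset S ρ)).index = a
  lt : ∀ w, IsMinR cs (Jset S ρ) w → lab w < a
  sph : ∀ w, IsMinR cs (Jset S ρ) w → ∀ y : C, Nat.card {z : C // Δ.δ y z = w} = P ^ lab w
  ex : ∀ j < a, ∃ w, IsMinR cs (Jset S ρ) w ∧ lab w = j
  uniq : ∀ w w', IsMinR cs (Jset S ρ) w → IsMinR cs (Jset S ρ) w' → lab w = lab w' → w = w'

section

variable {k V : Type*} [Field k] [AddCommGroup V] [Module k V] (S) (ρ : G →* Module.End k V)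

/-- the upper central series of `U x` -/
def Fl (x : C) : ℕ → Submodule k V
  | 0 => ⊥
  | j + 1 =>
    { carrier := {v | ∀ u ∈ S.U x, ρ u v - v ∈ Fl x j}
      zero_mem' := fun u _ => by rw [map_zero, sub_zero]; exact zero_mem _
      add_mem' := fun {v w} hv hw u hu => by
        have e : ρ u (v + w) - (v + w) = (ρ u v - v) + (ρ u w - w) := by rw [map_add]; abel
        rw [e]
        exact add_mem (hv u hu) (hw u hu)
      smul_mem' := fun c v hv u hu => by
        rw [map_smul, ← smul_sub]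
        exact Submodule.smul_mem _ _ (hv u hu) }

variable {S ρ}

omit F in
theorem Fl_zero (x : C) : Fl S ρ x 0 = ⊥ := rfl

omit F in
theorem mem_Fl_succ {x : C} {j : ℕ} {v : V} : v ∈ Fl S ρ x (j + 1) ↔ ∀ u ∈ S.U x, ρ u v - v ∈ Fl S ρ x j := Iff.rfl

omit F in
theorem rho_mem_Fl (g : G) {x : C} {j : ℕ} {v : V} (hv : v ∈ Fl S ρ x j) : ρ g v ∈ Fl S ρ (g • x) j := by
  induction j generalizing v with
  | zero =>
    rw [Fl_zero, Submodule.mem_bot] at hv ⊢
    rw [hv, map_zero]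
  | succ j ih =>
    rw [mem_Fl_succ] at hv ⊢
    intro u hu
    have h1 : g⁻¹ * u * g ∈ S.U x := by
      have := S.conj_mem_U hu g⁻¹
      rwa [inv_smul_smul, inv_inv] at this
    have h2 := ih (hv _ h1)
    have e : ρ u (ρ g v) - ρ g v = ρ g (ρ (g⁻¹ * u * g) v - v) := by
      rw [map_sub, ← rho_mul, ← rho_mul]
      congr 3
      group
    rw [e]
    exact h2

omit F in
theorem rho_mem_Fl_of_fix {g : G} {x : C} (hg : g • x = x) {j : ℕ} {v : V} (hv : v ∈ Fl S ρ x j) :
    ρ g v ∈ Fl S ρ x j := by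
  have := rho_mem_Fl (S := S) g hv
  rwa [hg] at this

omit F in
theorem Fl_mono_succ (x : C) (j : ℕ) : Fl S ρ x j ≤ Fl S ρ x (j + 1) := by
  intro v hv u hu
  exact sub_mem (rho_mem_Fl_of_fix (S := S) (S.fix x u hu) hv) hv

omit F in
theorem Fl_mono (x : C) {i j : ℕ} (h : i ≤ j) : Fl S ρ x i ≤ Fl S ρ x j := by
  induction h with
  | refl => exact le_rfl
  | step _ ih => exact ih.trans (Fl_mono_succ x _)

omit F in
theorem Fl_one (x : C) : Fl S ρ x 1 = Vx S ρ x := by
  ext v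
  rw [mem_Fl_succ, mem_Vx]
  refine forall₂_congr fun u _ => ?_
  rw [Fl_zero, Submodule.mem_bot, sub_eq_zero]

end

section

variable {V : Type*} [AddCommGroup V] [Module (ZMod p) V] {ρ : G →* Module.End (ZMod p) V}
variable [Fintype C] [Fact p.Prime] (hth : Δ.Thick) [Finite G] [Finite V] [Nontrivial V]
  (hirr : ∀ L : Submodule (ZMod p) V, Ivt ρ ⊤ L → L = ⊥ ∨ L = ⊤) (hcov : ∀ v : V, ∃ x, v ∈ Vx S ρ x)

include hth hirr hcov

/-- The labels exist. -/
theorem exists_lab (x : C) : ∃ (a : ℕ) (lab : W → ℕ), Lab S ρ a lab (Nat.card (Vx S ρ x)) := by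
  obtain ⟨a, lab, h1, h2, h3, h4, h5⟩ := labels (S := S) hth hirr hcov x
  have hp := (Fact.out : p.Prime)
  have hPc : Nat.card (Vx S ρ x) = p ^ Module.finrank (ZMod p) (Vx S ρ x) := by
    rw [Module.natCard_eq_pow_finrank (K := ZMod p) (V := Vx S ρ x), Nat.card_zmod]
  refine ⟨a, lab, ?_, ?_, ?_, h1, fun w hw => (h4 w hw).1, fun w hw => (h4 w hw).2, ?_, ?_⟩
  · rw [hPc]
    calc 2 ≤ p := hp.two_le
      _ = p ^ 1 := (pow_one p).symm
      _ ≤ _ := Nat.pow_le_pow_right hp.pos h3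
  · intro y
    rw [Module.natCard_eq_pow_finrank (K := ZMod p) (V := Vx S ρ y),
      Module.natCard_eq_pow_finrank (K := ZMod p) (V := Vx S ρ x), finrank_Vx hth y x]
  · rw [Module.natCard_eq_pow_finrank (K := ZMod p) (V := V), Nat.card_zmod, h2, hPc, pow_mul]
  · intro j hj
    obtain ⟨w, hw, -⟩ := h5 j hj
    exact ⟨w, hw⟩
  · intro w w' hw hw' h
    obtain ⟨w₀, -, h6⟩ := h5 (lab w') (h4 w' hw').1
    rw [h6 w ⟨hw, h⟩, h6 w' ⟨hw', rfl⟩]

omit hth hirr hcov in
theorem orb_subset_Fl {x : C} {j : ℕ} {v : V} (hv : v ∈ Fl S ρ x (j + 1)) :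
    (orb S ρ x v).ncard ≤ Nat.card (Fl S ρ x j) := by
  rw [← Nat.card_coe_set_eq]
  refine Nat.card_le_card_of_injective (fun w : orb S ρ x v => (⟨w.1 - v, ?_⟩ : Fl S ρ x j)) ?_
  · obtain ⟨u, hu, e⟩ := w.2
    rw [← e]
    exact hv u hu
  · rintro ⟨w, hw⟩ ⟨w', hw'⟩ h
    have h1 : w - v = w' - v := congrArg Subtype.val h
    exact Subtype.ext (sub_left_injective h1)

variable {a : ℕ} {lab : W → ℕ} {P : ℕ} (hL : Lab S ρ a lab P)

include hL

/-- the gate of a vector -/
theorem exists_gate_vec (x : C) {v : V} (hv0 : v ≠ 0) : ∃ z, IsMinR cs (Jset S ρ) (Δ.δ x z) ∧ v ∈ Vx S ρ z ∧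
    (orb S ρ x v).ncard = P ^ lab (Δ.δ x z) := by
  have hfinV : FiniteDimensional (ZMod p) V := Module.Finite.of_finite
  obtain ⟨y, hy⟩ := hcov v
  obtain ⟨z, hz, hzy⟩ := exists_gate (S := S) hth hirr x y
  have hvz : v ∈ Vx S ρ z := by rw [hzy]; exact hy
  refine ⟨z, hz, hvz, ?_⟩
  rw [card_orb (S := S) hth hirr hz hvz hv0, hL.sph _ hz]

/-- a nonzero invariant subspace meeting a block contains it -/
theorem Vx_le_of_inv {x z : C} {Q : Submodule (ZMod p) V} (hQ : ∀ g : G, g • x = x → ∀ q ∈ Q, ρ g q ∈ Q) {v : V}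
    (hv0 : v ≠ 0) (hvQ : v ∈ Q) (hvz : v ∈ Vx S ρ z) : Vx S ρ z ≤ Q := by
  have hfinV : FiniteDimensional (ZMod p) V := Module.Finite.of_finite
  obtain ⟨c, hc, h1, h2⟩ := exists_apt_pair (S := S) x z
  have key := irr_apt (S := S) hth hirr hc (Δ.δ x z) (Q := Q ⊓ Vx S ρ z) (by rw [h2]; exact inf_le_right) (by
    intro g hg q hq
    have hx : g • x = x := by rw [← h1]; exact hg 1
    have hz : g • z = z := by rw [← h2]; exact hg _
    have e1 := rho_mem_Vx S ρ g hq.2
    rw [hz] at e1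
    exact ⟨hQ g hx q hq.1, e1⟩)
  rcases key with h | h
  · exfalso
    have h3 : v ∈ Q ⊓ Vx S ρ z := ⟨hvQ, hvz⟩
    rw [h, Submodule.mem_bot] at h3
    exact hv0 h3
  · rw [h2] at h
    rw [← h]
    exact inf_le_left

/-- **The flags.** -/
theorem flag (x : C) {j : ℕ} (hj : j ≤ a) : Nat.card (Fl S ρ x j) = P ^ j ∧
    (∀ v : V, v ≠ 0 → (v ∈ Fl S ρ x j ↔ (orb S ρ x v).ncard < P ^ j)) ∧
    ∀ i, i + 1 = j → ∀ z, IsMinR cs (Jset S ρ) (Δ.δ x z) → lab (Δ.δ x z) = i →
      Fl S ρ x j = Fl S ρ x i ⊔ Vx S ρ z ∧ Fl S ρ x i ⊓ Vx S ρ z = ⊥ := by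
  classical
  have hfinV : FiniteDimensional (ZMod p) V := Module.Finite.of_finite
  have hP1 : 1 < P := hL.two_le
  induction j with
  | zero =>
    refine ⟨?_, ?_, fun i hi => absurd hi (Nat.succ_ne_zero i)⟩
    · rw [Fl_zero, pow_zero]
      exact Nat.card_eq_one_iff_unique.2 ⟨inferInstance, inferInstance⟩
    · intro v hv
      rw [Fl_zero, Submodule.mem_bot, pow_zero, Nat.lt_one_iff, Set.ncard_eq_zero (Set.toFinite _)]
      constructor
      · intro h; exact absurd h hv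
      · intro h
        have := self_mem_orb (S := S) (ρ := ρ) x v
        rw [h] at this
        exact absurd this (Set.notMem_empty v)
  | succ j ih =>
    obtain ⟨ih1, ih2, -⟩ := ih (by omega)
    -- new vectors have orbits of size `P ^ j`
    have hnew : ∀ v, v ∈ Fl S ρ x (j + 1) → v ∉ Fl S ρ x j → (orb S ρ x v).ncard = P ^ j := by
      intro v hv hv'
      have hv0 : v ≠ 0 := fun h => hv' (by rw [h]; exact zero_mem _)
      have h1 := orb_subset_Fl (S := S) hv
      rw [ih1] at h1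
      have h2 : ¬ (orb S ρ x v).ncard < P ^ j := fun h => hv' ((ih2 v hv0).2 h)
      omega
    -- there are new vectors
    obtain ⟨v, hv, hv'⟩ : ∃ v, v ∈ Fl S ρ x (j + 1) ∧ v ∉ Fl S ρ x j := by
      have hI : Ivt (ρ.comp (S.U x).subtype) ⊤ (Fl S ρ x j) := fun u _ q hq =>
        rho_mem_Fl_of_fix (S := S) (S.fix x u u.2) hq
      have hne : (⊤ : Submodule (ZMod p) (V ⧸ Fl S ρ x j)) ≠ ⊥ := by
        intro h
        have h1 : Fl S ρ x j = ⊤ := by
          rw [eq_top_iff]
          intro v _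
          rw [← Submodule.Quotient.mk_eq_zero]
          have h2 : (Submodule.Quotient.mk v : V ⧸ Fl S ρ x j) ∈ (⊤ : Submodule (ZMod p) (V ⧸ Fl S ρ x j)) := trivial
          rw [h, Submodule.mem_bot] at h2
          exact h2
        rw [h1] at ih1
        have h2 : Nat.card (⊤ : Submodule (ZMod p) V) = Nat.card V := Nat.card_congr (Equiv.Set.univ V)
        rw [h2, hL.card_V] at ih1
        have := Nat.pow_right_injective hL.two_le ih1
        omega
      have hpg : IsPGroup p (⊤ : Subgroup (S.U x)) := by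
        intro g
        obtain ⟨n, hn⟩ := S.isP x g.1
        exact ⟨n, Subtype.ext hn⟩
      obtain ⟨w, -, hw0, hw⟩ := exists_fixed (qRep _ _ hI) hpg ⊤ (fun _ _ _ _ => trivial) hne
      obtain ⟨v, rfl⟩ := (Fl S ρ x j).mkQ_surjective w
      refine ⟨v, ?_, ?_⟩
      · intro u hu
        have h1 := hw ⟨u, hu⟩ trivial
        rw [qRep_apply] at h1
        have h2 : (Fl S ρ x j).mkQ (ρ u v - v) = 0 := by
          rw [map_sub, sub_eq_zero]
          exact h1
        exact (Submodule.Quotient.mk_eq_zero _).1 h2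
      · intro h
        exact hw0 ((Submodule.Quotient.mk_eq_zero _).2 h)
    have hv0 : v ≠ 0 := fun h => hv' (by rw [h]; exact zero_mem _)
    obtain ⟨z, hz1, hz2, hz3⟩ := exists_gate_vec (S := S) hth hirr hcov hL x hv0
    have hzl : lab (Δ.δ x z) = j := by
      rw [hnew v hv hv'] at hz3
      exact (Nat.pow_right_injective hL.two_le hz3).symm
    have hzle : Vx S ρ z ≤ Fl S ρ x (j + 1) :=
      Vx_le_of_inv (S := S) hth hirr hcov hL (fun g hg q hq => rho_mem_Fl_of_fix (S := S) hg hq) hv0 hv hz2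
    have hall : ∀ z', IsMinR cs (Jset S ρ) (Δ.δ x z') → lab (Δ.δ x z') = j → Vx S ρ z' ≤ Fl S ρ x (j + 1) := by
      intro z' h1 h2 q hq
      have h3 := hL.uniq _ _ hz1 h1 (hzl.trans h2.symm)
      obtain ⟨u, hu, rfl⟩ := S.exists_move (x := x) h3
      rw [Vx_smul] at hq
      obtain ⟨q, hq, rfl⟩ := hq
      exact rho_mem_Fl_of_fix (S := S) (S.fix x u hu) (hzle hq)
    have hiff : ∀ v : V, v ≠ 0 → (v ∈ Fl S ρ x (j + 1) ↔ (orb S ρ x v).ncard < P ^ (j + 1)) := by
      intro v hv0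
      constructor
      · intro h
        by_cases h1 : v ∈ Fl S ρ x j
        · exact ((ih2 v hv0).1 h1).trans (Nat.pow_lt_pow_right hP1 (by omega))
        · rw [hnew v h h1]
          exact Nat.pow_lt_pow_right hP1 (by omega)
      · intro h
        obtain ⟨z', h1, h2, h3⟩ := exists_gate_vec (S := S) hth hirr hcov hL x hv0
        rw [h3] at h
        have h4 := (Nat.pow_lt_pow_iff_right hP1).1 h
        rcases Nat.lt_or_ge (lab (Δ.δ x z')) j with h5 | h5
        · apply Fl_mono_succ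
          rw [ih2 v hv0, h3]
          exact Nat.pow_lt_pow_right hP1 h5
        · exact hall z' h1 (by omega) h2
    have hdec : ∀ z', IsMinR cs (Jset S ρ) (Δ.δ x z') → lab (Δ.δ x z') = j →
        Fl S ρ x (j + 1) = Fl S ρ x j ⊔ Vx S ρ z' ∧ Fl S ρ x j ⊓ Vx S ρ z' = ⊥ := by
      intro z' h1 h2
      constructor
      · apply le_antisymm
        · intro v hv
          by_cases h3 : v ∈ Fl S ρ x j
          · exact (le_sup_left : Fl S ρ x j ≤ Fl S ρ x j ⊔ Vx S ρ z') h3
          · have hv0 : v ≠ 0 := fun h => h3 (by rw [h]; exact zero_mem _)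
            obtain ⟨z'', h4, h5, h6⟩ := exists_gate_vec (S := S) hth hirr hcov hL x hv0
            rw [hnew v hv h3] at h6
            have h7 := (Nat.pow_right_injective hL.two_le h6).symm
            have h8 := hL.uniq _ _ h1 h4 (h2.trans h7.symm)
            obtain ⟨u, hu, rfl⟩ := S.exists_move (x := x) h8
            rw [Vx_smul] at h5
            obtain ⟨q, hq, rfl⟩ := h5
            have h9 := (hall z' h1 h2 hq) u hu
            have e : ρ u q = (ρ u q - q) + q := by abel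
            rw [e]
            exact Submodule.add_mem_sup h9 hq
        · exact sup_le (Fl_mono_succ x j) (hall z' h1 h2)
      · rw [eq_bot_iff]
        rintro q ⟨hq1, hq2⟩
        rw [Submodule.mem_bot]
        by_contra hq0
        have h3 := (ih2 q hq0).1 hq1
        rw [card_orb (S := S) hth hirr h1 hq2 hq0, hL.sph _ h1, h2] at h3
        exact lt_irrefl _ h3
    refine ⟨?_, hiff, ?_⟩
    · obtain ⟨h1, h2⟩ := hdec z hz1 hzl
      have h3 := Submodule.finrank_sup_add_finrank_inf_eq (Fl S ρ x j) (Vx S ρ z)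
      rw [h2, finrank_bot, add_zero, ← h1] at h3
      rw [Module.natCard_eq_pow_finrank (K := ZMod p) (V := Fl S ρ x (j + 1)), h3, pow_add,
        ← Module.natCard_eq_pow_finrank (K := ZMod p) (V := Fl S ρ x j),
        ← Module.natCard_eq_pow_finrank (K := ZMod p) (V := Vx S ρ z), ih1, hL.card_Vx, pow_succ]
    · intro i hi z' h1 h2
      obtain rfl : i = j := by omega
      exact hdec z' h1 h2

end

end Cfsg.Agent.H50.Her
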