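import Cfsg.Agent.H50.HerDefs
import Cfsg.Agent.PermutationGroups.RegularLinear
import Cfsg.Agent.H348.Trans.Square
import Cfsg.Agent.H912.Bd1

/-!
# Hering's theorem: elements of order `r`, `r` a primitive prime divisor of `p ^ d - 1` (helper50)

`|V| = p ^ d`, `x ∈ GL(V)` of order `r` with `ord_r(p) = d`.

* `irr_of_ppd` : `⟨x⟩` is irreducible;
* `comm_of_ppd` : the centraliser of `x` in `GL(V)` is commutative;
* `centralizes_abelian` : `x` centralises every abelian `t`-subgroup (`t ≠ p`) which it normalises, if `r > d`.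
-/

set_option autoImplicit false

namespace Cfsg.Agent.H50.Her

open Module Cfsg.Agent.PermutationGroups.RegularLinear

universe u

section

variable {p : ℕ} [hp : Fact p.Prime] {V : Type u} [AddCommGroup V] [Module (ZMod p) V] [Finite V]

/-- A primitive prime divisor does not divide `p ^ i - 1`, `0 < i < d`. -/
theorem ppd_not_dvd {d r : ℕ} (hr : r.Prime) (ho : orderOf (p : ZMod r) = d) {i : ℕ} (h0 : 0 < i) (hi : i < d) :
    ¬ r ∣ p ^ i - 1 := by
  intro hd
  have := Fact.mk hr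
  have h1 : (p : ZMod r) ^ i = 1 := by
    have h2 : ((p ^ i - 1 : ℕ) : ZMod r) = 0 := (ZMod.natCast_eq_zero_iff _ _).2 hd
    rw [Nat.cast_sub (Nat.one_le_pow _ _ hp.out.one_lt.le), Nat.cast_pow, Nat.cast_one, sub_eq_zero] at h2
    exact h2
  have h3 := orderOf_dvd_of_pow_eq_one h1
  rw [ho] at h3
  exact absurd (Nat.le_of_dvd h0 h3) (by omega)

theorem ppd_ne {d r : ℕ} (hr : r.Prime) (ho : orderOf (p : ZMod r) = d) (hd : 0 < d) : r ≠ p := by
  rintro rfl
  have := Fact.mk hr
  have h1 : ((r : ℕ) : ZMod r) = 0 := ZMod.natCast_self r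
  rw [h1] at ho
  have h2 : orderOf (0 : ZMod r) = 0 := by
    rw [orderOf_eq_zero_iff']
    intro n hn
    rw [zero_pow (by omega)]
    exact zero_ne_one
  omega

theorem ppd_lt {d r : ℕ} (hr : r.Prime) (ho : orderOf (p : ZMod r) = d) (hd : 0 < d) : d < r := by
  have h1 : ¬ r ∣ p := fun h => ppd_ne hr ho hd ((Nat.prime_dvd_prime_iff_eq hr hp.out).1 h)
  have := Fact.mk hr
  have h2 : (p : ZMod r) ≠ 0 := fun h => h1 ((ZMod.natCast_eq_zero_iff p r).1 h)
  have h3 : orderOf (p : ZMod r) ∣ r - 1 := orderOf_dvd_of_pow_eq_one (ZMod.pow_card_sub_one_eq_one h2)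
  have := Nat.le_of_dvd (by have := hr.two_le; omega) h3
  have := hr.two_le
  omega

/-- The action of the powers of `x` on the nonzero vectors of an invariant subspace without fixed points. -/
theorem ppd_dvd_of_free {r : ℕ} (hr : r.Prime) {x : V ≃ₗ[ZMod p] V} (hx : orderOf x = r)
    (W U : Submodule (ZMod p) V) (hUW : U ≤ W) (hW : ∀ v ∈ W, x v ∈ W) (hU : ∀ v ∈ W, x v = v → v ∈ U)
    (hUx : ∀ v ∈ U, x v = v) : r ∣ Nat.card W - Nat.card U := by
  classical
  have hpow : ∀ (z : Subgroup.zpowers x) (v : V), v ∈ W → (z : V ≃ₗ[ZMod p] V) v ∈ W := by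
    have h1 : ∀ (n : ℕ) (v : V), v ∈ W → (x ^ n) v ∈ W := by
      intro n
      induction n with
      | zero => intro v hv; simpa using hv
      | succ n ih => intro v hv; rw [pow_succ']; exact hW _ (ih v hv)
    have := finite_gl (p := p) (V := V)
    rintro ⟨z, hz⟩ v hv
    obtain ⟨n, rfl⟩ := (mem_powers_iff_mem_zpowers (x := x)).2 hz
    exact h1 n v hv
  have hfix : ∀ (z : Subgroup.zpowers x) (v : V), v ∈ W → z ≠ 1 → (z : V ≃ₗ[ZMod p] V) v = v → v ∈ U := by
    rintro ⟨z, hz⟩ v hv hz1 hzv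
    have hz2 : z ≠ 1 := fun h => hz1 (Subtype.ext h)
    have h2 : orderOf z = r := by
      have h3 : orderOf z ∣ r := by rw [← hx]; exact orderOf_dvd_of_mem_zpowers hz
      rcases (Nat.dvd_prime hr).1 h3 with h4 | h4
      · exact absurd (orderOf_eq_one_iff.1 h4) hz2
      · exact h4
    have h5 : x ∈ Subgroup.zpowers z := by
      have := finite_gl (p := p) (V := V)
      have h6 : Subgroup.zpowers z = Subgroup.zpowers x := by
        apply Subgroup.eq_of_le_of_card_ge (Subgroup.zpowers_le.2 hz)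
        rw [Nat.card_zpowers, Nat.card_zpowers, h2, hx]
      rw [h6]; exact Subgroup.mem_zpowers x
    have := finite_gl (p := p) (V := V)
    obtain ⟨n, hn⟩ := (mem_powers_iff_mem_zpowers (x := z)).2 h5
    apply hU v hv
    have h7 : ∀ n : ℕ, (z ^ n) v = v := by
      intro n
      induction n with
      | zero => simp
      | succ n ih => rw [pow_succ']; change z ((z ^ n) v) = v; rw [ih, hzv]
    have hn' : z ^ n = x := hn
    rw [← hn']
    exact h7 n
  let X := {v : V // v ∈ W ∧ v ∉ U}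
  have hinU : ∀ (z : Subgroup.zpowers x) (v : V), (z : V ≃ₗ[ZMod p] V) v ∈ U → v ∈ U := by
    intro z v hv
    have h1 : ∀ (z : Subgroup.zpowers x) (v : V), v ∈ U → (z : V ≃ₗ[ZMod p] V) v = v := by
      have h1 : ∀ (n : ℕ) (v : V), v ∈ U → (x ^ n) v = v := by
        intro n
        induction n with
        | zero => intro v hv; simp
        | succ n ih => intro v hv; rw [pow_succ']; change x ((x ^ n) v) = v; rw [ih v hv, hUx v hv]
      have := finite_gl (p := p) (V := V)
      rintro ⟨z, hz⟩ v hv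
      obtain ⟨n, rfl⟩ := (mem_powers_iff_mem_zpowers (x := x)).2 hz
      exact h1 n v hv
    have h2 := h1 z⁻¹ _ hv
    have h3 : ((z⁻¹ : Subgroup.zpowers x) : V ≃ₗ[ZMod p] V) ((z : V ≃ₗ[ZMod p] V) v) = v := by
      rw [Subgroup.coe_inv]
      exact LinearEquiv.symm_apply_apply _ v
    rw [h3] at h2
    rw [h2]; exact hv
  let act : MulAction (Subgroup.zpowers x) X :=
    { smul := fun z v => ⟨(z : V ≃ₗ[ZMod p] V) v.1, hpow z _ v.2.1, fun h => v.2.2 (hinU z _ h)⟩
      one_smul := fun v => Subtype.ext rfl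
      mul_smul := fun z w v => Subtype.ext rfl }
  have h1 : Nat.card (Subgroup.zpowers x) ∣ Nat.card X := by
    have := finite_gl (p := p) (V := V)
    refine Cfsg.Agent.H348.Trans.card_dvd_of_free (E := Subgroup.zpowers x) (X := X) ?_
    intro z v hzv
    by_contra hz
    exact v.2.2 (hfix z v.1 v.2.1 hz (congrArg Subtype.val hzv))
  rw [Nat.card_zpowers, hx] at h1
  have h2 : Nat.card X = Nat.card W - Nat.card U := by
    have e1 : Nat.card X = ((W : Set V) \ (U : Set V)).ncard := rfl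
    rw [e1, Set.ncard_sdiff (SetLike.coe_subset_coe.2 hUW) (Set.toFinite _)]
    rfl
  rwa [h2] at h1

theorem card_submodule (W : Submodule (ZMod p) V) : Nat.card W = p ^ finrank (ZMod p) W := by
  have := Module.natCard_eq_pow_finrank (K := ZMod p) (V := W)
  rw [this, Nat.card_zmod]

theorem card_space : Nat.card V = p ^ finrank (ZMod p) V := by
  have := Module.natCard_eq_pow_finrank (K := ZMod p) (V := V)
  rw [this, Nat.card_zmod]

/-- **An element of order `r` is irreducible.** -/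
theorem irr_of_ppd {r : ℕ} (hr : r.Prime) (ho : orderOf (p : ZMod r) = finrank (ZMod p) V)
    {x : V ≃ₗ[ZMod p] V} (hx : orderOf x = r) (W : Submodule (ZMod p) V) (hW : ∀ v ∈ W, x v ∈ W) :
    W = ⊥ ∨ W = ⊤ := by
  have hfinV : FiniteDimensional (ZMod p) V := Module.Finite.of_finite
  -- no fixed points
  let C : Submodule (ZMod p) V := LinearMap.ker ((x : V →ₗ[ZMod p] V) - LinearMap.id)
  have hC : ∀ v, v ∈ C ↔ x v = v := by
    intro v
    rw [LinearMap.mem_ker, LinearMap.sub_apply, sub_eq_zero]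
    rfl
  have hd : 0 < finrank (ZMod p) V := by
    rw [Nat.pos_iff_ne_zero]
    intro h0
    have h1 : Subsingleton V := Module.finrank_zero_iff.1 h0
    have h2 : x = 1 := LinearEquiv.ext fun v => Subsingleton.elim _ _
    rw [h2, orderOf_one] at hx
    exact hr.ne_one hx.symm
  have hCbot : C = ⊥ := by
    by_contra hne
    have h1 := ppd_dvd_of_free hr hx ⊤ C le_top (fun _ _ => trivial) (fun v _ h => (hC v).2 h) (fun v h => (hC v).1 h)
    have h2 : C ≠ ⊤ := by
      intro htop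
      have h3 : x = 1 := LinearEquiv.ext fun v => (hC v).1 (htop ▸ Submodule.mem_top)
      rw [h3, orderOf_one] at hx
      exact hr.ne_one hx.symm
    have h3 : finrank (ZMod p) C < finrank (ZMod p) V := Submodule.finrank_lt h2
    have h4 : 0 < finrank (ZMod p) C := by
      have : Nontrivial C := Submodule.nontrivial_iff_ne_bot.2 hne
      exact finrank_pos
    rw [card_submodule, card_submodule, finrank_top] at h1
    set c := finrank (ZMod p) C
    set d := finrank (ZMod p) V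
    have e1 : p ^ d - p ^ c = p ^ c * (p ^ (d - c) - 1) := by
      rw [Nat.mul_sub, mul_one, ← pow_add, show c + (d - c) = d by omega]
    rw [e1] at h1
    rcases hr.dvd_mul.1 h1 with h5 | h5
    · exact ppd_ne hr ho hd ((Nat.prime_dvd_prime_iff_eq hr hp.out).1 (hr.dvd_of_dvd_pow h5))
    · exact ppd_not_dvd hr ho (by omega) (by omega) h5
  by_contra hcon
  push Not at hcon
  obtain ⟨h1, h2⟩ := hcon
  have h3 := ppd_dvd_of_free hr hx W ⊥ bot_le hW (fun v _ h => by rw [← hCbot]; exact (hC v).2 h)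
    (fun v h => by rw [(Submodule.mem_bot _).1 h, map_zero])
  have h4 : finrank (ZMod p) W < finrank (ZMod p) V := Submodule.finrank_lt h2
  have h5 : 0 < finrank (ZMod p) W := by
    have : Nontrivial W := Submodule.nontrivial_iff_ne_bot.2 h1
    exact finrank_pos
  rw [card_submodule, card_submodule, finrank_bot, pow_zero] at h3
  exact ppd_not_dvd hr ho h5 h4 h3

/-- **The centraliser of an element of order `r` is commutative.** -/
theorem comm_of_ppd {r : ℕ} (hr : r.Prime) (ho : orderOf (p : ZMod r) = finrank (ZMod p) V)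
    {x : V ≃ₗ[ZMod p] V} (hx : orderOf x = r) {a b : End (ZMod p) V} (ha : (x : End (ZMod p) V) * a = a * x)
    (hb : (x : End (ZMod p) V) * b = b * x) : a * b = b * a := by
  have hnt : Nontrivial V := by
    by_contra h
    rw [not_nontrivial_iff_subsingleton] at h
    have h2 : x = 1 := LinearEquiv.ext fun v => Subsingleton.elim _ _
    rw [h2, orderOf_one] at hx
    exact hr.ne_one hx.symm
  refine commute_of_irreducible {(x : End (ZMod p) V)} ?_ a b ?_ ?_
  · intro W hW
    exact irr_of_ppd hr ho hx W (hW _ rfl)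
  · rintro s rfl; exact ha
  · rintro s rfl; exact hb

theorem comm_of_ppd' {r : ℕ} (hr : r.Prime) (ho : orderOf (p : ZMod r) = finrank (ZMod p) V)
    {x : V ≃ₗ[ZMod p] V} (hx : orderOf x = r) {a b : V ≃ₗ[ZMod p] V} (ha : x * a = a * x)
    (hb : x * b = b * x) : a * b = b * a := by
  have h1 := comm_of_ppd hr ho hx (a := (a : End (ZMod p) V)) (b := (b : End (ZMod p) V))
    (by ext v; exact DFunLike.congr_fun ha v) (by ext v; exact DFunLike.congr_fun hb v)
  ext v
  exact DFunLike.congr_fun h1 v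

/-! ### Abelian subgroups normalised by `x` -/

/-- The representation over the algebraic closure. -/
noncomputable def bar (p : ℕ) [Fact p.Prime] (V : Type u) [AddCommGroup V] [Module (ZMod p) V] :
    (V ≃ₗ[ZMod p] V) →* End (AlgebraicClosure (ZMod p)) (TensorProduct (ZMod p) (AlgebraicClosure (ZMod p)) V) where
  toFun g := (g : V →ₗ[ZMod p] V).baseChange _
  map_one' := by
    change (LinearMap.id : V →ₗ[ZMod p] V).baseChange _ = LinearMap.id
    exact LinearMap.baseChange_id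
  map_mul' g h := by
    change ((g : V →ₗ[ZMod p] V) ∘ₗ (h : V →ₗ[ZMod p] V)).baseChange _ = _
    rw [LinearMap.baseChange_comp]
    rfl

omit [Finite V] in
theorem bar_injective : Function.Injective (bar p V) := by
  rw [injective_iff_map_eq_one]
  intro g hg
  have h1 : ∀ v : V, (1 : AlgebraicClosure (ZMod p)) ⊗ₜ[ZMod p] (g v) = (1 : AlgebraicClosure (ZMod p)) ⊗ₜ[ZMod p] v := by
    intro v
    have h2 := DFunLike.congr_fun hg ((1 : AlgebraicClosure (ZMod p)) ⊗ₜ[ZMod p] v)
    simpa [bar] using h2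
  have hinj : Function.Injective (fun v : V => (1 : AlgebraicClosure (ZMod p)) ⊗ₜ[ZMod p] v) := by
    exact Module.FaithfullyFlat.tensorProduct_mk_injective (A := ZMod p) (B := AlgebraicClosure (ZMod p)) V
  ext v
  exact hinj (h1 v)

open Cfsg.Agent.H912.Bd in
/-- **Abelian case.** An element `x` of prime order `r > dim V` centralises every abelian group of order prime to `p` which
it normalises. -/
theorem centralizes_abelian {r : ℕ} (hr : r.Prime) (hrd : finrank (ZMod p) V < r) {x : V ≃ₗ[ZMod p] V}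
    (hx : x ^ r = 1) {Q : Subgroup (V ≃ₗ[ZMod p] V)} (hQc : ∀ a ∈ Q, ∀ b ∈ Q, a * b = b * a)
    (hQp : ¬ p ∣ Nat.card Q) (hn : ∀ a ∈ Q, x * a * x⁻¹ ∈ Q) : ∀ a ∈ Q, x * a = a * x := by
  classical
  have hfinV : FiniteDimensional (ZMod p) V := Module.Finite.of_finite
  have hfin := finite_gl (p := p) (V := V)
  by_contra hcon
  push Not at hcon
  obtain ⟨a, ha, hxa⟩ := hcon
  set K := AlgebraicClosure (ZMod p) with hK
  have hcharK : CharP K p := inferInstance
  let ρ := bar p V
  have hN : ((Nat.card Q : ℕ) : K) ≠ 0 := by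
    rw [Ne, CharP.cast_eq_zero_iff K p]; exact hQp
  have hQN : ∀ a ∈ Q, a ^ Nat.card Q = 1 := by
    intro a ha
    have := pow_card_eq_one' (x := (⟨a, ha⟩ : Q))
    exact congrArg Subtype.val this
  set c : V ≃ₗ[ZMod p] V := x * a * x⁻¹ * a⁻¹ with hc
  have hcQ : c ∈ Q := Q.mul_mem (hn a ha) (Q.inv_mem ha)
  have hc1 : ρ ((⟨c, hcQ⟩ : Q) : V ≃ₗ[ZMod p] V) ≠ 1 := by
    intro h
    have h1 : c = 1 := bar_injective (h.trans (map_one _).symm)
    rw [hc, mul_inv_eq_one, mul_inv_eq_iff_eq_mul] at h1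
    exact hxa h1
  obtain ⟨χ, hχ, hχc⟩ := exists_wt ρ hQc hN hQN hc1
  -- the translates
  have hnk : ∀ (k : ℕ) (b : V ≃ₗ[ZMod p] V), b ∈ Q → x ^ k * b * (x ^ k)⁻¹ ∈ Q := by
    intro k
    induction k with
    | zero => intro b hb; simpa using hb
    | succ k ih =>
      intro b hb
      have := hn _ (ih b hb)
      rw [pow_succ', mul_inv_rev]
      have e : x * x ^ k * b * ((x ^ k)⁻¹ * x⁻¹) = x * (x ^ k * b * (x ^ k)⁻¹) * x⁻¹ := by group
      rw [e]; exact this
  let tw : Fin r → (Q → K) := fun k b => χ ⟨x ^ (k : ℕ) * b * (x ^ (k : ℕ))⁻¹, hnk k b b.2⟩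
  have hshift : ∀ k : ℕ, (∀ b : Q, χ ⟨x ^ k * b * (x ^ k)⁻¹, hnk k b b.2⟩ = χ b) → ∀ m : ℕ, ∀ b : Q,
      χ ⟨x ^ (k * m) * b * (x ^ (k * m))⁻¹, hnk (k * m) b b.2⟩ = χ b := by
    intro k hk m
    induction m with
    | zero =>
      intro b
      refine congrArg χ (Subtype.ext ?_)
      simp
    | succ m ih =>
      intro b
      have h1 := hk ⟨x ^ (k * m) * b * (x ^ (k * m))⁻¹, hnk (k * m) b b.2⟩
      rw [ih b] at h1
      rw [← h1]
      congr 1
      apply Subtype.ext
      change x ^ (k * (m + 1)) * (b : V ≃ₗ[ZMod p] V) * (x ^ (k * (m + 1)))⁻¹ =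
        x ^ k * (x ^ (k * m) * (b : V ≃ₗ[ZMod p] V) * (x ^ (k * m))⁻¹) * (x ^ k)⁻¹
      rw [show k * (m + 1) = k + k * m by ring, pow_add]
      group
  have hinj : Function.Injective tw := by
    have key : ∀ i j : Fin r, i < j → tw i ≠ tw j := by
      intro i j hij heq
      have hij' : (i : ℕ) < j := hij
      have h1 : ∀ b : Q, χ ⟨x ^ ((j : ℕ) - i) * b * (x ^ ((j : ℕ) - i))⁻¹, hnk _ b b.2⟩ = χ b := by
        intro b
        -- take `x ^ (-i) b x ^ i`
        have hb' : x ^ ((r - (i : ℕ))) * (b : V ≃ₗ[ZMod p] V) * (x ^ (r - (i : ℕ)))⁻¹ ∈ Q := hnk _ b b.2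
        have h2 := congrFun heq ⟨_, hb'⟩
        have hxi : x ^ (r - (i : ℕ)) = (x ^ (i : ℕ))⁻¹ := by
          rw [eq_inv_iff_mul_eq_one, ← pow_add, show r - (i : ℕ) + i = r by omega, hx]
        have e1 : (⟨x ^ (i : ℕ) * (x ^ ((r - (i : ℕ))) * (b : V ≃ₗ[ZMod p] V) * (x ^ (r - (i : ℕ)))⁻¹) *
            (x ^ (i : ℕ))⁻¹, hnk i _ hb'⟩ : Q) = b := by
          apply Subtype.ext
          change x ^ (i : ℕ) * (x ^ ((r - (i : ℕ))) * (b : V ≃ₗ[ZMod p] V) * (x ^ (r - (i : ℕ)))⁻¹) *
            (x ^ (i : ℕ))⁻¹ = b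
          rw [hxi]; group
        have e2 : (⟨x ^ (j : ℕ) * (x ^ ((r - (i : ℕ))) * (b : V ≃ₗ[ZMod p] V) * (x ^ (r - (i : ℕ)))⁻¹) *
            (x ^ (j : ℕ))⁻¹, hnk j _ hb'⟩ : Q) = ⟨x ^ ((j : ℕ) - i) * b * (x ^ ((j : ℕ) - i))⁻¹, hnk _ b b.2⟩ := by
          apply Subtype.ext
          change x ^ (j : ℕ) * (x ^ ((r - (i : ℕ))) * (b : V ≃ₗ[ZMod p] V) * (x ^ (r - (i : ℕ)))⁻¹) *
            (x ^ (j : ℕ))⁻¹ = x ^ ((j : ℕ) - i) * b * (x ^ ((j : ℕ) - i))⁻¹
          have e3 : x ^ (j : ℕ) = x ^ ((j : ℕ) - i) * x ^ (i : ℕ) := by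
            rw [← pow_add, show (j : ℕ) - i + i = j by omega]
          rw [hxi, e3]; group
        change χ ⟨x ^ (i : ℕ) * _ * (x ^ (i : ℕ))⁻¹, _⟩ = χ ⟨x ^ (j : ℕ) * _ * (x ^ (j : ℕ))⁻¹, _⟩ at h2
        rw [← e2, ← h2]
        exact congrArg χ e1
      -- `x` itself
      have hcop : Nat.Coprime ((j : ℕ) - i) r := by
        rw [Nat.coprime_comm, Nat.Prime.coprime_iff_not_dvd hr]
        intro h
        have := Nat.le_of_dvd (by omega) h
        have := j.2
        omega
      obtain ⟨m, hm⟩ := Nat.exists_mul_mod_eq_one_of_coprime hcop hr.one_lt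
      have h3 := hshift _ h1 m ⟨a, ha⟩
      apply hχc
      have e4 : x ^ (((j : ℕ) - i) * m) = x := by
        have := Nat.div_add_mod (((j : ℕ) - i) * m) r
        rw [← this, hm.2, pow_add, pow_mul, hx, one_pow, one_mul, pow_one]
      have h4 : χ ⟨x * a * x⁻¹, hn a ha⟩ = χ ⟨a, ha⟩ := by
        rw [← h3]
        congr 1
        apply Subtype.ext
        change x * a * x⁻¹ = x ^ (((j : ℕ) - i) * m) * a * (x ^ (((j : ℕ) - i) * m))⁻¹
        rw [e4]
      have h5 : (⟨x * a * x⁻¹, hn a ha⟩ : Q) = ⟨c, hcQ⟩ * ⟨a, ha⟩ := by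
        apply Subtype.ext
        change x * a * x⁻¹ = c * a
        rw [hc]; group
      rw [h5, wt_mul ρ hχ] at h4
      have h6 : χ ⟨a, ha⟩ ≠ 0 := by
        intro h0
        have h7 := wt_mul ρ hχ ⟨a, ha⟩ (⟨a, ha⟩ : Q)⁻¹
        rw [mul_inv_cancel, wt_one ρ hχ, h0, zero_mul] at h7
        exact one_ne_zero h7
      exact mul_right_cancel₀ h6 (h4.trans (one_mul _).symm)
    intro i j hij
    rcases lt_trichotomy i j with h | h | h
    · exact absurd hij (key i j h)
    · exact h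
    · exact absurd hij.symm (key j i h)
  have hind : iSupIndep (fun k : Fin r => wt ρ Q (tw k)) := (indep_wt ρ hQc hN hQN).comp hinj
  have hle := sum_finrank_le hind
  have hge : ∀ k : Fin r, 1 ≤ finrank K (wt ρ Q (tw k)) := by
    intro k
    have h1 := finrank_wt_le ρ (χ := χ) (s := x ^ (k : ℕ)) (A := Q) (fun b hb => hnk k b hb)
    have h2 : 1 ≤ finrank K (wt ρ Q χ) := by
      have : Nontrivial (wt ρ Q χ) := Submodule.nontrivial_iff_ne_bot.2 hχ
      exact Nat.one_le_iff_ne_zero.2 (finrank_pos (R := K) (M := wt ρ Q χ)).ne'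
    exact h2.trans h1
  have h3 : r ≤ finrank K (TensorProduct (ZMod p) K V) := by
    calc r = ∑ k : Fin r, 1 := by simp
      _ ≤ ∑ k : Fin r, finrank K (wt ρ Q (tw k)) := Finset.sum_le_sum fun k _ => hge k
      _ ≤ _ := hle
  rw [Module.finrank_baseChange] at h3
  omega

end

end Cfsg.Agent.H50.Her
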