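import Cfsg.Agent.H50.HerPanel
import Cfsg.Agent.H50.HerBld
import Cfsg.Agent.Tits.Opp
import Cfsg.Agent.H794.HerSpread

/-!
# Consequences of the panel theorem (helper50, for S3695)

* `card_sph_pow`, `lab_eq`, `uniqLen` : all panels have `P + 1` chambers: spheres have `P ^ ℓ(w)` elements, the labels are
  the lengths, the `J`-minimal elements have different lengths;
* `comm_U` : `a = 2`: `U x` is commutative;
* `comm_T` : if the commutators of the stabiliser of two opposite chambers are central, it acts commutatively on `Vx`.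
-/

set_option autoImplicit false
set_option linter.unusedSectionVars false
set_option linter.style.haveILetI false

namespace Cfsg.Agent.H50.Her

open Cfsg.Agent.Tits.Core Cfsg.Agent.Tits.Core.Bldg Cfsg.Agent.Tits.Exchange Cfsg.Agent.Tits
open Cfsg.Agent.FixBN Cfsg.Agent.FixBN.Cox Cfsg.Agent.Omega.CR Cfsg.Agent.Omega.CR.Bl Cfsg.Agent.H905.DC

variable {I : Type*} {M : CoxeterMatrix I} {W : Type*} [Group W] {cs : CoxeterSystem M W} {C : Type*}
  {Δ : Bldg cs C}

local prefix:100 "ℓ" => cs.length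

variable {G : Type*} [Group G] [MulAction G C] {p : ℕ} {S : Sys Δ G p} [F : OppRes.Cox cs]
variable {V : Type*} [AddCommGroup V] [Module (ZMod p) V] {ρ : G →* Module.End (ZMod p) V}

theorem card_Pan_eq' [Finite C] (x : C) (k : I) :
    Nat.card (Δ.Pan k x) = Nat.card {y : C // Δ.δ x y = cs.simple k} + 1 := by
  have h4 : Δ.Pan k x = insert x {y : C | Δ.δ x y = cs.simple k} := by
    ext z
    rw [Set.mem_insert_iff]
    rfl
  have h5 : x ∉ {y : C | Δ.δ x y = cs.simple k} := by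
    change ¬ (Δ.δ x x = cs.simple k)
    rw [Δ.δ_self]
    exact fun h => Trace.simple_ne_one k h.symm
  rw [h4, Nat.card_coe_set_eq, Set.ncard_insert_of_notMem h5, ← Nat.card_coe_set_eq]
  rfl

/-- spheres, all panels of the same size -/
theorem card_sph_pow [Finite C] {P : ℕ} (hP : 0 < P)
    (hpan : ∀ (x : C) (k : I), Nat.card {y : C // Δ.δ x y = cs.simple k} = P) (x : C) (w : W) :
    Nat.card {z : C // Δ.δ x z = w} = P ^ ℓ w := by
  obtain ⟨ω, hω, rfl⟩ := cs.exists_isReduced w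
  rw [Opp.card_sphere Δ (q := fun _ => P) (fun i y => by rw [card_Pan_eq', hpan]) (fun _ => hP) x hω]
  rw [List.map_const', List.prod_replicate, hω.eq]

variable [Fintype C] [Fact p.Prime] (hth : Δ.Thick) [Finite G] [Finite V] [Nontrivial V]
  (hirr : ∀ L : Submodule (ZMod p) V, Ivt ρ ⊤ L → L = ⊥ ∨ L = ⊤) (hcov : ∀ v : V, ∃ x, v ∈ Vx S ρ x)
  {a : ℕ} {lab : W → ℕ} {P : ℕ} (hL : Lab S ρ a lab P)

include hL

omit [Finite G] [Finite V] [Nontrivial V] in
/-- the labels are the lengths -/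
theorem lab_eq (hpan : ∀ (x : C) (k : I), Nat.card {y : C // Δ.δ x y = cs.simple k} = P) (x : C) {w : W}
    (hw : IsMinR cs (Jset S ρ) w) : lab w = ℓ w := by
  have h1 := hL.sph w hw x
  rw [card_sph_pow (lt_of_lt_of_le Nat.zero_lt_two hL.two_le) hpan] at h1
  exact (Nat.pow_right_injective hL.two_le h1).symm

omit [Finite G] [Finite V] [Nontrivial V] in
/-- **The unique length property.** -/
theorem uniqLen (hpan : ∀ (x : C) (k : I), Nat.card {y : C // Δ.δ x y = cs.simple k} = P) (x : C) :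
    UniqLen cs (Jset S ρ) := by
  intro w w' hw hw' h
  refine hL.uniq w w' hw hw' ?_
  rw [lab_eq hL hpan x hw, lab_eq hL hpan x hw', h]

include hth hirr hcov

/-- `a = 2`: the groups `U x` are commutative (`ρ` faithful). -/
theorem comm_U (ha : a = 2) (hinj : Function.Injective ρ) (x : C) : ∀ u ∈ S.U x, ∀ u' ∈ S.U x, u * u' = u' * u := by
  have h1 := (flag (S := S) hth hirr hcov hL x ha.ge).1
  have htop : Fl S ρ x 2 = ⊤ := by
    have h2 := hL.card_V
    rw [ha, ← h1] at h2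
    have hp := (Fact.out : p.Prime)
    rw [Module.natCard_eq_pow_finrank (K := ZMod p) (V := V),
      Module.natCard_eq_pow_finrank (K := ZMod p) (V := Fl S ρ x 2), Nat.card_zmod] at h2
    exact Submodule.eq_top_of_finrank_eq (Nat.pow_right_injective hp.two_le h2).symm
  have hkey : ∀ u ∈ S.U x, ∀ v : V, ρ u v - v ∈ Vx S ρ x := by
    intro u hu v
    have h2 : v ∈ Fl S ρ x 2 := by rw [htop]; trivial
    have h3 := h2 u hu
    rw [Fl_one] at h3
    exact h3
  intro u hu u' hu'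
  apply hinj
  refine LinearMap.ext fun v => ?_
  rw [rho_mul, rho_mul]
  have e1 := hkey u hu v
  have e2 := hkey u' hu' v
  have e3 : ρ u (ρ u' v - v) = ρ u' v - v := e2 u hu
  have e4 : ρ u' (ρ u v - v) = ρ u v - v := e1 u' hu'
  rw [map_sub, sub_eq_sub_iff_add_eq_add] at e3 e4
  have e5 : ρ u (ρ u' v) + v = ρ u' (ρ u v) + v := by rw [e3, e4, add_comm]
  exact add_right_cancel e5

omit hcov hL in
/-- uniform version of `exists_T` -/
theorem exists_T' {x y : C} (_hxy : Δ.Opp x y) {g : G} (hg : g • x = x) :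
    ∃ t : G, t • x = x ∧ t • y = y ∧ ∀ v ∈ Vx S ρ x, ρ g v = ρ t v := by
  obtain ⟨a, ha, e⟩ := S.exists_move (x := x) (z := y) (z' := g • y) (by
    have := S.iso g x y
    rw [hg] at this
    exact this.symm)
  have h1 : (a⁻¹ * g) • x = x := by rw [mul_smul, hg, inv_smul_eq_iff, S.fix x a ha]
  refine ⟨a⁻¹ * g, h1, by rw [mul_smul, ← e, inv_smul_smul], fun v hv => ?_⟩
  have h2 := rho_mem_Vx S ρ (a⁻¹ * g) hv
  rw [h1] at h2
  have h3 := h2 a ha
  rw [← rho_mul, mul_inv_cancel_left] at h3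
  exact h3

/-- the data of two `i`-adjacent chambers, `i ∉ J`, of label one -/
theorem adj_data {x y : C} {i : I} (hxy : Δ.δ x y = cs.simple i) (hi : IsMinR cs (Jset S ρ) (cs.simple i))
    (hl : lab (cs.simple i) = 1) : (∀ u ∈ S.U x, ∀ v ∈ Vx S ρ y, ρ u v - v ∈ Vx S ρ x) ∧
      Vx S ρ x ⊓ Vx S ρ y = ⊥ := by
  have ha : 2 ≤ a := by
    have := hL.lt _ hi
    omega
  obtain ⟨h1, h2⟩ := (flag (S := S) hth hirr hcov hL x ha).2.2 1 rfl y (by rw [hxy]; exact hi) (by rw [hxy]; exact hl)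
  rw [Fl_one] at h1 h2
  refine ⟨?_, h2⟩
  intro u hu v hv
  have h3 : v ∈ Fl S ρ x 2 := by rw [h1]; exact (le_sup_right : Vx S ρ y ≤ Vx S ρ x ⊔ Vx S ρ y) hv
  have h4 := h3 u hu
  rwa [Fl_one] at h4

/-- **The element interchanging two adjacent chambers.** -/
theorem exists_n {x y : C} {i : I} (hxy : Δ.δ x y = cs.simple i) (hi : IsMinR cs (Jset S ρ) (cs.simple i))
    (hl : lab (cs.simple i) = 1) {u : G} (hu : u ∈ S.U x) (huy : u • y ≠ y) :
    ∃ n : G, n • y = x ∧ n • x = y ∧ ∀ m ∈ Vx S ρ y, ρ n m = ρ u m - m := by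
  obtain ⟨hφ, hinf⟩ := adj_data (S := S) hth hirr hcov hL hxy hi hl
  have hyx := Δ.δ_symm_simple hxy
  obtain ⟨hψ, -⟩ := adj_data (S := S) hth hirr hcov hL hyx hi hl
  -- the chambers of the panel
  have hz : Δ.δ x (u • y) = cs.simple i := by rw [S.δ_smul hu, hxy]
  have hyz : Δ.δ y (u • y) = cs.simple i :=
    Δ.δ_eq_of_mem_Pan (x := x) (Δ.mem_Pan_of_δ hxy) (Δ.mem_Pan_of_δ hz) (Ne.symm huy)
  obtain ⟨v', hv', e1⟩ := S.exists_move (x := y) (hyz.trans hyx.symm)
  have hx'ne : v' • x ≠ x := by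
    intro h
    have h1 := S.pan y x i hyx v' hv' h (u • y) (Δ.mem_Pan_of_δ hyz)
    rw [e1] at h1
    exact (Δ.ne_of_δ_simple hz) h1
  have hyx' : Δ.δ y (v' • x) = cs.simple i := by rw [S.δ_smul hv', hyx]
  have hxx' : Δ.δ x (v' • x) = cs.simple i :=
    Δ.δ_eq_of_mem_Pan (x := y) (Δ.mem_Pan_of_δ hyx) (Δ.mem_Pan_of_δ hyx') (Ne.symm hx'ne)
  obtain ⟨w', hw', e2⟩ := S.exists_move (x := x) (hxx'.trans hxy.symm)
  have hny : (w' * v' * u) • y = x := by rw [mul_smul, mul_smul, e1, S.fix x w' hw']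
  have hnx : (w' * v' * u) • x = y := by rw [mul_smul, mul_smul, S.fix x u hu, e2]
  refine ⟨w' * v' * u, hny, hnx, ?_⟩
  intro m hm
  have hφm := hφ u hu m hm
  have h1 : ρ u m = m + (ρ u m - m) := by abel
  have h2 : ρ v' (ρ u m) = m + (ρ u m - m) + (ρ v' (ρ u m - m) - (ρ u m - m)) := by
    conv_lhs => rw [h1, map_add, show ρ v' m = m from hm v' hv']
    abel
  set b := ρ v' (ρ u m - m) - (ρ u m - m) with hb
  have hbm : b ∈ Vx S ρ y := hψ v' hv' _ hφm
  have h3 : ρ w' (ρ u m - m) = ρ u m - m := hφm w' hw'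
  have hmb : m + b ∈ Vx S ρ y := add_mem hm hbm
  have h4 := hφ w' hw' _ hmb
  have h5 : ρ (w' * v' * u) m = (ρ u m - m) + (m + b) + (ρ w' (m + b) - (m + b)) := by
    rw [rho_mul, rho_mul, h2]
    have e : m + (ρ u m - m) + b = (ρ u m - m) + (m + b) := by abel
    rw [e, map_add, h3]
    abel
  have h6 : ρ (w' * v' * u) m ∈ Vx S ρ x := by
    have := rho_mem_Vx S ρ (w' * v' * u) hm
    rwa [hny] at this
  have h7 : m + b ∈ Vx S ρ x ⊓ Vx S ρ y := by
    refine ⟨?_, hmb⟩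
    have e : m + b = ρ (w' * v' * u) m - (ρ u m - m) - (ρ w' (m + b) - (m + b)) := by rw [h5]; abel
    rw [e]
    exact sub_mem (sub_mem h6 hφm) h4
  rw [hinf, Submodule.mem_bot] at h7
  rw [h5, h7, map_zero]
  abel

/-- **The torus acts commutatively on the block.** -/
theorem comm_T {i : I} (hi : IsMinR cs (Jset S ρ) (cs.simple i)) (hl : lab (cs.simple i) = 1) {x d : C}
    (hxd : Δ.Opp x d) (hT : ∀ g h : G, g • x = x → g • d = d → h • x = x → h • d = d →
      g * h * g⁻¹ * h⁻¹ ∈ Subgroup.center G) :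
    ∀ g h : G, g • x = x → g • d = d → h • x = x → h • d = d → ∀ v ∈ Vx S ρ x, ρ g (ρ h v) = ρ h (ρ g v) := by
  classical
  have hfinV : FiniteDimensional (ZMod p) V := Module.Finite.of_finite
  obtain ⟨y, hxy⟩ := Δ.exists_δ x (cs.simple i)
  obtain ⟨hφ, hinf⟩ := adj_data (S := S) hth hirr hcov hL hxy hi hl
  have hyx := Δ.δ_symm_simple hxy
  -- `u₀` moving `y`
  obtain ⟨y', y'', hyy, hy', hy''⟩ := hth x i
  obtain ⟨u₀, hu₀, hu₀y⟩ : ∃ u₀ ∈ S.U x, u₀ • y ≠ y := by
    by_cases h : y' = y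
    · obtain ⟨u, hu, e⟩ := S.exists_move (x := x) (hxy.trans hy''.symm)
      exact ⟨u, hu, by rw [e, ← h]; exact hyy.symm⟩
    · obtain ⟨u, hu, e⟩ := S.exists_move (x := x) (hxy.trans hy'.symm)
      exact ⟨u, hu, by rw [e]; exact h⟩
  have hgm : IsMinR cs (Jset S ρ) (Δ.δ x y) := by rw [hxy]; exact hi
  -- the maps `φ u`
  have hmemN : Nontrivial (Vx S ρ x) := by
    rw [Submodule.nontrivial_iff_ne_bot]
    exact Vx_ne_bot' (S := S) (ρ := ρ) x
  let Φ : S.U x → (Vx S ρ y →ₗ[ZMod p] Vx S ρ x) := fun u =>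
    { toFun := fun m => ⟨ρ u.1 m.1 - m.1, hφ u.1 u.2 m.1 m.2⟩
      map_add' := fun m m' => by
        apply Subtype.ext
        change ρ u.1 (m.1 + m'.1) - (m.1 + m'.1) = (ρ u.1 m.1 - m.1) + (ρ u.1 m'.1 - m'.1)
        rw [map_add]; abel
      map_smul' := fun c m => by
        apply Subtype.ext
        change ρ u.1 (c • m.1) - c • m.1 = c • (ρ u.1 m.1 - m.1)
        rw [map_smul, smul_sub] }
  have hΦmul : ∀ u u' : S.U x, Φ (u * u') = Φ u + Φ u' := by
    intro u u'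
    refine LinearMap.ext fun m => Subtype.ext ?_
    change ρ (u.1 * u'.1) m.1 - m.1 = (ρ u.1 m.1 - m.1) + (ρ u'.1 m.1 - m.1)
    have h1 : ρ u.1 (ρ u'.1 m.1 - m.1) = ρ u'.1 m.1 - m.1 := (hφ u'.1 u'.2 m.1 m.2) u.1 u.2
    rw [map_sub, sub_eq_iff_eq_add] at h1
    rw [rho_mul, h1]
    abel
  have hΦone : Φ 1 = 0 := by
    refine LinearMap.ext fun m => Subtype.ext ?_
    change ρ 1 m.1 - m.1 = 0
    rw [rho_one, sub_self]
  have hΦker : ∀ (u : S.U x) (m : Vx S ρ y), m ≠ 0 → Φ u m = 0 → u.1 • y = y := by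
    intro u m hm h
    have h1 : ρ u.1 m.1 - m.1 = 0 := congrArg Subtype.val h
    exact gate_fix (S := S) hth hirr hgm u.2 m.2 (fun h => hm (Subtype.ext h)) (sub_eq_zero.1 h1)
  have hΦfix : ∀ u : S.U x, u.1 • y = y → Φ u = 0 := by
    intro u h
    refine LinearMap.ext fun m => Subtype.ext ?_
    change ρ u.1 m.1 - m.1 = 0
    rw [sub_eq_zero]
    exact m.2 u.1 (S.mem_U_of_fix u.2 h)
  have hinj₀ : Function.Injective (Φ ⟨u₀, hu₀⟩) := by
    rw [← LinearMap.ker_eq_bot, eq_bot_iff]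
    intro m hm
    rw [Submodule.mem_bot]
    by_contra hm0
    exact hu₀y (hΦker ⟨u₀, hu₀⟩ m hm0 hm)
  let e : Vx S ρ y ≃ₗ[ZMod p] Vx S ρ x := LinearEquiv.ofInjectiveOfFinrankEq (Φ ⟨u₀, hu₀⟩) hinj₀ (finrank_Vx hth y x)
  have he : ∀ m, e m = Φ ⟨u₀, hu₀⟩ m := fun _ => rfl
  -- the additive group `D`
  let ΨU : Additive (S.U x) →+ Module.End (ZMod p) (Vx S ρ x) :=
    { toFun := fun u => (Φ u.toMul).comp e.symm.toLinearMap
      map_zero' := by
        change (Φ 1).comp _ = 0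
        rw [hΦone, LinearMap.zero_comp]
      map_add' := fun u u' => by
        change (Φ (u.toMul * u'.toMul)).comp _ = _
        rw [hΦmul, LinearMap.add_comp] }
  have hΨ : ∀ (u : S.U x) (v : Vx S ρ x), ΨU (Additive.ofMul u) v = Φ u (e.symm v) := fun _ _ => rfl
  let T : Subgroup (Vx S ρ x ≃ₗ[ZMod p] Vx S ρ x) :=
    { carrier := {τ | ∃ g : G, g • x = x ∧ g • d = d ∧ ∀ v, ((τ v : Vx S ρ x) : V) = ρ g v}
      one_mem' := ⟨1, one_smul _ _, one_smul _ _, fun v => by rw [rho_one]; rfl⟩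
      mul_mem' := by
        rintro τ τ' ⟨g, h1, h2, h3⟩ ⟨g', h1', h2', h3'⟩
        refine ⟨g * g', by rw [mul_smul, h1', h1], by rw [mul_smul, h2', h2], fun v => ?_⟩
        change ((τ (τ' v) : Vx S ρ x) : V) = _
        rw [h3, h3', rho_mul]
      inv_mem' := by
        rintro τ ⟨g, h1, h2, h3⟩
        refine ⟨g⁻¹, by rw [inv_smul_eq_iff, h1], by rw [inv_smul_eq_iff, h2], fun v => ?_⟩
        have h4 := h3 (τ⁻¹ v)
        have h5 : τ (τ⁻¹ v) = v := LinearEquiv.apply_symm_apply τ v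
        rw [h5] at h4
        rw [h4, rho_inv_rho] }
  let K : Subring (Module.End (ZMod p) (Vx S ρ x)) :=
    { carrier := {κ | ∃ f : Module.End (ZMod p) V, (∀ g v, f (ρ g v) = ρ g (f v)) ∧ ∀ v, ((κ v : Vx S ρ x) : V) = f v}
      mul_mem' := by
        rintro κ κ' ⟨f, h1, h2⟩ ⟨f', h1', h2'⟩
        refine ⟨f * f', fun g v => ?_, fun v => ?_⟩
        · change f (f' (ρ g v)) = ρ g (f (f' v))
          rw [h1', h1]
        · change ((κ (κ' v) : Vx S ρ x) : V) = f (f' v)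
          rw [h2, h2']
      one_mem' := ⟨1, fun _ _ => rfl, fun _ => rfl⟩
      add_mem' := by
        rintro κ κ' ⟨f, h1, h2⟩ ⟨f', h1', h2'⟩
        refine ⟨f + f', fun g v => ?_, fun v => ?_⟩
        · rw [LinearMap.add_apply, LinearMap.add_apply, h1, h1', map_add]
        · change ((κ v + κ' v : Vx S ρ x) : V) = f v + f' v
          rw [Submodule.coe_add, h2, h2']
      zero_mem' := ⟨0, fun _ _ => by simp, fun _ => rfl⟩
      neg_mem' := by
        rintro κ ⟨f, h1, h2⟩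
        refine ⟨-f, fun g v => ?_, fun v => ?_⟩
        · rw [LinearMap.neg_apply, LinearMap.neg_apply, h1, map_neg]
        · change ((-κ v : Vx S ρ x) : V) = -f v
          rw [Submodule.coe_neg, h2] }
  have hfe : Finite (Module.End (ZMod p) (Vx S ρ x)) :=
    Finite.of_injective (fun f => (f : Vx S ρ x → Vx S ρ x)) DFunLike.coe_injective
  -- cardinality of `D`
  have hcard : Nat.card ΨU.range = Nat.card (Vx S ρ x) := by
    obtain ⟨v₀, hv₀⟩ := exists_ne (0 : Vx S ρ x)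
    have hv₀' : e.symm v₀ ≠ 0 := fun h => hv₀ (by
      have := congrArg e h
      rwa [LinearEquiv.apply_symm_apply, map_zero] at this)
    apply le_antisymm
    · refine Nat.card_le_card_of_injective (fun D : ΨU.range => D.1 v₀) ?_
      rintro ⟨_, u, rfl⟩ ⟨_, u', rfl⟩ h
      have h1 : ΨU u v₀ = ΨU u' v₀ := h
      have h2 : ΨU (u - u') v₀ = 0 := by rw [map_sub, LinearMap.sub_apply, h1, sub_self]
      have h3 : Φ (u - u').toMul (e.symm v₀) = 0 := h2
      have h4 := hΦfix _ (hΦker _ _ hv₀' h3)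
      have h5 : ΨU (u - u') = 0 := by
        change (Φ (u - u').toMul).comp _ = 0
        rw [h4, LinearMap.zero_comp]
      rw [map_sub, sub_eq_zero] at h5
      exact Subtype.ext h5
    · rw [hL.card_Vx x]
      have h1 := hL.sph _ hi x
      rw [hl, pow_one] at h1
      rw [← h1]
      refine Nat.card_le_card_of_injective (fun z : {z : C // Δ.δ x z = cs.simple i} =>
        (⟨ΨU (Additive.ofMul ⟨mv S x y z.1, mv_mem S x y z.1⟩), _, rfl⟩ : ΨU.range)) ?_
      rintro ⟨z, hz⟩ ⟨z', hz'⟩ h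
      have h2 : ΨU (Additive.ofMul ⟨mv S x y z, mv_mem S x y z⟩) = ΨU (Additive.ofMul ⟨mv S x y z', mv_mem S x y z'⟩) :=
        congrArg Subtype.val h
      have h3 : ΨU (-Additive.ofMul ⟨mv S x y z', mv_mem S x y z'⟩ + Additive.ofMul ⟨mv S x y z, mv_mem S x y z⟩) v₀ =
          0 := by
        rw [map_add, map_neg, h2, neg_add_cancel, LinearMap.zero_apply]
      have h4 := hΦker _ _ hv₀' h3
      have h5 : ((mv S x y z')⁻¹ * mv S x y z) • y = y := h4
      rw [mul_smul, inv_smul_eq_iff, mv_smul S (hz.trans hxy.symm), mv_smul S (hz'.trans hxy.symm)] at h5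
      exact Subtype.ext h5
  obtain ⟨n₀, hn₀y, hn₀x, hn₀⟩ := exists_n (S := S) hth hirr hcov hL hxy hi hl hu₀ hu₀y
  have hres := Cfsg.Agent.H794.HerSpread.comm_of_spread T ΨU.range
    (by
      refine ⟨Additive.ofMul ⟨u₀, hu₀⟩, ?_⟩
      refine LinearMap.ext fun v => ?_
      rw [hΨ, ← he, LinearEquiv.apply_symm_apply]
      rfl) hcard
    (by
      rintro _ ⟨u, rfl⟩ hu
      have huy : u.toMul.1 • y ≠ y := by
        intro h
        apply hu
        change (Φ u.toMul).comp _ = 0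
        rw [hΦfix _ h, LinearMap.zero_comp]
      obtain ⟨n, hny, hnx, hn⟩ := exists_n (S := S) hth hirr hcov hL hxy hi hl u.toMul.2 huy
      have h1 : (n * n₀⁻¹) • x = x := by
        rw [mul_smul, inv_smul_eq_iff.2 hn₀y.symm, hny]
      obtain ⟨t, ht1, ht2, ht3⟩ := exists_T' (S := S) hth hirr hxd h1
      -- `t` on the block
      have ht4 : ∀ v : Vx S ρ x, ρ t v.1 = ((ΨU u v : Vx S ρ x) : V) := by
        intro v
        rw [← ht3 v.1 v.2]
        have h2 : v.1 = ρ n₀ (e.symm v).1 := by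
          rw [hn₀ _ (e.symm v).2]
          have h3 : e (e.symm v) = v := LinearEquiv.apply_symm_apply e v
          exact (congrArg Subtype.val h3).symm
        conv_lhs => rw [h2]
        rw [rho_mul, rho_inv_rho, hn _ (e.symm v).2]
        rfl
      have htinj : Function.Injective (ΨU u) := by
        intro v v' h
        have h2 : ρ t v.1 = ρ t v'.1 := by rw [ht4, ht4, h]
        have h3 := congrArg (ρ t⁻¹) h2
        rw [rho_inv_rho, rho_inv_rho] at h3
        exact Subtype.ext h3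
      refine ⟨LinearEquiv.ofInjectiveOfFinrankEq (ΨU u) htinj rfl, ⟨t, ht1, ht2, fun v => (ht4 v).symm⟩, ?_⟩
      rfl)
    K
    (by
      rintro κ ⟨f, h1, h2⟩ hκ v v' h
      have hker : LinearMap.ker f = ⊥ := by
        rcases hirr (LinearMap.ker f) (by
          intro g _ w hw
          rw [LinearMap.mem_ker] at hw ⊢
          rw [h1, hw, map_zero]) with h3 | h3
        · exact h3
        · exfalso
          apply hκ
          refine LinearMap.ext fun w => Subtype.ext ?_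
          rw [h2]
          have h4 : (w : V) ∈ LinearMap.ker f := by rw [h3]; trivial
          exact h4
      have h3 : f v = f v' := by rw [← h2, ← h2, h]
      exact Subtype.ext (LinearMap.ker_eq_bot.1 hker h3))
    (by
      rintro κ ⟨f, h1, h2⟩ τ ⟨g, -, -, h3⟩ v
      apply Subtype.ext
      rw [h2, h3, h3, h2, h1])
    (by
      rintro τ ⟨g, hg1, hg2, hg3⟩ τ' ⟨g', hg1', hg2', hg3'⟩
      have hz := hT g g' hg1 hg2 hg1' hg2'
      have hzc : ∀ h : G, g * g' * g⁻¹ * g'⁻¹ * h = h * (g * g' * g⁻¹ * g'⁻¹) := fun h =>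
        (Subgroup.mem_center_iff.1 hz h).symm
      have hzx : (g * g' * g⁻¹ * g'⁻¹) • x = x := by
        rw [mul_smul, mul_smul, mul_smul, inv_smul_eq_iff.2 hg1'.symm, inv_smul_eq_iff.2 hg1.symm, hg1', hg1]
      let κ : Module.End (ZMod p) (Vx S ρ x) := (ρ (g * g' * g⁻¹ * g'⁻¹)).restrict (p := Vx S ρ x) (q := Vx S ρ x) (by
        intro v hv
        have := rho_mem_Vx S ρ (g * g' * g⁻¹ * g'⁻¹) hv
        rwa [hzx] at this)
      have hκ : ∀ v : Vx S ρ x, ((κ v : Vx S ρ x) : V) = ρ (g * g' * g⁻¹ * g'⁻¹) v.1 := fun v => rfl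
      refine ⟨κ, ⟨ρ (g * g' * g⁻¹ * g'⁻¹), fun h v => ?_, fun v => hκ v⟩, ?_⟩
      · rw [← rho_mul, hzc, rho_mul]
      · intro v
        apply Subtype.ext
        rw [hκ, hg3, hg3', hg3', hg3, ← rho_mul, ← rho_mul, ← rho_mul]
        congr 2
        group)
  -- conclusion
  intro g h hg1 hg2 hh1 hh2 v hv
  have hmk : ∀ g : G, g • x = x → g • d = d → ∃ τ ∈ T, ∀ v : Vx S ρ x, ((τ v : Vx S ρ x) : V) = ρ g v := by
    intro g hg1 hg2
    have hmap : ∀ v ∈ Vx S ρ x, ρ g v ∈ Vx S ρ x := by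
      intro v hv
      have := rho_mem_Vx S ρ g hv
      rwa [hg1] at this
    let κ : Module.End (ZMod p) (Vx S ρ x) := (ρ g).restrict (p := Vx S ρ x) (q := Vx S ρ x) hmap
    have hκ : Function.Injective κ := by
      intro v v' h
      have h2 : ρ g v.1 = ρ g v'.1 := congrArg Subtype.val h
      have h3 := congrArg (ρ g⁻¹) h2
      rw [rho_inv_rho, rho_inv_rho] at h3
      exact Subtype.ext h3
    exact ⟨LinearEquiv.ofInjectiveOfFinrankEq κ hκ rfl, ⟨g, hg1, hg2, fun _ => rfl⟩, fun _ => rfl⟩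
  obtain ⟨τ, hτ, h1⟩ := hmk g hg1 hg2
  obtain ⟨τ', hτ', h2⟩ := hmk h hh1 hh2
  have h3 := hres τ hτ τ' hτ'
  have h4 : τ (τ' ⟨v, hv⟩) = τ' (τ ⟨v, hv⟩) := DFunLike.congr_fun h3 ⟨v, hv⟩
  have h5 := congrArg Subtype.val h4
  rw [h1, h2, h2, h1] at h5
  exact h5

end Cfsg.Agent.H50.Her
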