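import Cfsg.Agent.H50.HerGoal
import Cfsg.Agent.H50.HerCfg

/-!
# Hering's theorem (S3695): the main theorem in the language of linear groups (helper50)

`G ≤ GL(V)` transitive on the nonzero vectors, `A₀` an abelian normal subgroup. `MainOut p V G A₀` : there is a maximal
abelian normal subgroup `A ≥ A₀` with one of

* `SemiOut` : `G` is a group of semilinear maps of a field with `|V|` elements;
* `ClassTwoOut` : `|V| = 3 ^ 2`, `SL(V) ≤ G`; `|V| = p ^ 2`, `p = 5, 7, 11, 23`, a normal quaternion group in `[G, G]`;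
  `|V| = 3 ^ 4`, a normal subgroup of order `32` in `[G, G]`;
* `L` with `Perf G A L`, `Quasi A L`, and `NatAct p V L` (`L` is `SL(V)`, `Sp(V)` or `G₂` over the field `F = End_L(V)`)
  or `ExcAct p d b L` (`SL_2(5)`, `A_6`, `A_7`, `SL_2(13)`, `U_3(3)`).
-/

set_option autoImplicit false

namespace Cfsg.Agent.H50.Her

open Module

universe u

section

variable (p : ℕ) [hp : Fact p.Prime] (V : Type u) [AddCommGroup V] [Module (ZMod p) V] [Finite V] [Nontrivial V]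

/-- `G` is a group of semilinear maps of a field with `|V|` elements. -/
def SemiOut (G : Subgroup (V ≃ₗ[ZMod p] V)) : Prop :=
  ∃ (F : Type) (_ : Field F) (_ : Fintype F) (e : V ≃+ F), ∀ g ∈ G, ∃ (c : F) (σ : F ≃+* F), ∀ v : V,
    e (g v) = c * σ (e v)

/-- The outcome of the case of class two. -/
def ClassTwoOut (G A : Subgroup (V ≃ₗ[ZMod p] V)) : Prop :=
  (p = 3 ∧ finrank (ZMod p) V = 2 ∧ (∀ g : V ≃ₗ[ZMod p] V, LinearEquiv.det g = 1 → g ∈ G) ∧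
    LinearEquiv.neg (ZMod p) ∈ ⁅G, G⁆) ∨
  (finrank (ZMod p) V = 2 ∧ (p = 5 ∨ p = 7 ∨ p = 11 ∨ p = 23) ∧ ∃ N ≤ ⁅G, G⁆, Nor G N ∧
    Nonempty (N ≃* QuaternionGroup 2)) ∨
  (finrank (ZMod p) V = 4 ∧ p = 3 ∧ Nat.card A ≤ 2 ∧ Nat.card G ∣ 32 * 120 ∧ ∃ N ≤ ⁅G, G⁆, Nor G N ∧
    Nat.card N = 32)

/-- The exceptional quasisimple groups. -/
def ExcAct (d b : ℕ) (L : Type u) [Group L] : Prop :=
  (((d = 2 ∧ (p = 11 ∨ p = 19 ∨ p = 29 ∨ p = 59)) ∨ (d = 4 ∧ p = 3)) ∧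
    Nonempty (L ≃* Matrix.SpecialLinearGroup (Fin 2) (ZMod 5))) ∨
  (p = 2 ∧ d = 4 ∧ b = 1 ∧ (Nonempty (L ≃* alternatingGroup (Fin 6)) ∨ Nonempty (L ≃* alternatingGroup (Fin 7)))) ∨
  (p = 3 ∧ d = 6 ∧ b = 1 ∧ Nonempty (L ≃* Matrix.SpecialLinearGroup (Fin 2) (ZMod 13))) ∨
  (p = 2 ∧ d = 6 ∧ b = 1 ∧ ∃ (E : Type) (_ : Field E) (_ : Fintype E), Fintype.card E = 9 ∧
    Nonempty (L ≃* Cfsg.PSU 3 E 3))

variable {p V}

/-- **`L` is `SL(V)`, `Sp(V)` or `G₂` over a field `F` with `p ^ c` elements**, `F = End_L(V)` (the scalars of `F` are all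
the maps commuting with `L`). -/
def NatAct (L : Subgroup (V ≃ₗ[ZMod p] V)) : Prop :=
  ∃ (F : Type) (_ : Field F) (_ : Fintype F) (_ : Module F V), 2 ≤ finrank F V ∧
    (∀ g ∈ L, ∀ (c : F) (v : V), g (c • v) = c • g v) ∧
    (∀ f : V →ₗ[ZMod p] V, (∀ g ∈ L, ∀ v, f (g v) = g (f v)) → ∃ c : F, ∀ v, f v = c • v) ∧
    ((∀ g : V ≃ₗ[F] V, LinearEquiv.det g = 1 ↔ ∃ h ∈ L, ∀ v, h v = g v) ∨
      (∃ f : LinearMap.BilinForm F V, f.IsAlt ∧ f.Nondegenerate ∧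
        ∀ g : V ≃ₗ[F] V, (∀ u v, f (g u) (g v) = f u v) ↔ ∃ h ∈ L, ∀ v, h v = g v) ∨
      (p = 2 ∧ finrank F V = 6 ∧ 4 ≤ Fintype.card F ∧ Nonempty (L ≃* Cfsg.Lie.chevG2.group F) ∧
        ∃ f : LinearMap.BilinForm F V, f.IsAlt ∧ f.Nondegenerate ∧ ∀ h ∈ L, ∀ u v, f (h u) (h v) = f u v))

/-- The outcome of the main theorem. -/
def MainOut (G A₀ : Subgroup (V ≃ₗ[ZMod p] V)) : Prop :=
  ∃ A, A₀ ≤ A ∧ MaxAb G A ∧ (SemiOut p V G ∨ ClassTwoOut p V G A ∨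
    ∃ (L : Subgroup (V ≃ₗ[ZMod p] V)) (b : ℕ), Perf G A L ∧ Quasi A L ∧ Nat.card (endAlg L) = p ^ b ∧
      Nat.card A ∣ p ^ b - 1 ∧ (NatAct L ∨ ExcAct p (finrank (ZMod p) V) b L))

end

end Cfsg.Agent.H50.Her
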