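import Cfsg.Agent.H50.HerHH

/-!
# Hering's theorem: `r`-subgroups, invariant Sylow subgroups (helper50)

* `isCyclic_of_isPGroup` : an `r`-subgroup of `GL(V)` is cyclic;
* `exists_orderOf_eq` : if `R = r ^ k` divides `|G|` then `G` has an element of order `R`;
* `centralizes_of_not_dvd` : `x` centralises every subgroup of order prime to `r` normalised by `y`.
-/

set_option autoImplicit false
set_option linter.style.haveILetI false

namespace Cfsg.Agent.H50.Her

open Module Cfsg.Agent.PermutationGroups.RegularLinear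

universe u

variable {p : ℕ} [hp : Fact p.Prime] {V : Type u} [AddCommGroup V] [Module (ZMod p) V] [Finite V]

/-- A group of elements commuting with an element of order `r` is cyclic. -/
theorem isCyclic_of_commute {r : ℕ} (hr : r.Prime) (ho : orderOf (p : ZMod r) = finrank (ZMod p) V)
    {x : V ≃ₗ[ZMod p] V} (hx : orderOf x = r) (P : Subgroup (V ≃ₗ[ZMod p] V)) (hP : ∀ a ∈ P, x * a = a * x) :
    IsCyclic P := by
  have hnt : Nontrivial V := by
    by_contra h
    rw [not_nontrivial_iff_subsingleton] at h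
    have h2 : x = 1 := LinearEquiv.ext fun v => Subsingleton.elim _ _
    rw [h2, orderOf_one] at hx
    exact hr.ne_one hx.symm
  refine (isCyclic_and_card_dvd (Subalgebra.centralizer (ZMod p) {(x : End (ZMod p) V)})
    (injective_of_commute_irreducible {(x : End (ZMod p) V)} fun W hW => irr_of_ppd hr ho hx W (hW _ rfl))
    P.subtype P.subtype_injective ?_).1
  intro g
  rw [Subalgebra.mem_centralizer_iff]
  rintro _ rfl
  ext v
  exact DFunLike.congr_fun (hP g g.2) v

/-- **The `r`-subgroups of `GL(V)` are cyclic.** -/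
theorem isCyclic_of_isPGroup {r : ℕ} (hr : r.Prime) (ho : orderOf (p : ZMod r) = finrank (ZMod p) V)
    (P : Subgroup (V ≃ₗ[ZMod p] V)) (hP : IsPGroup r P) : IsCyclic P := by
  have hfin := finite_gl (p := p) (V := V)
  haveI := Fact.mk hr
  rcases subsingleton_or_nontrivial P with h | h
  · exact isCyclic_of_subsingleton
  have h1 : Nontrivial (Subgroup.center P) := hP.center_nontrivial
  obtain ⟨z, hz1⟩ := exists_ne (1 : Subgroup.center P)
  -- an element of order `r` in the centre
  obtain ⟨k, hk⟩ := (hP.to_subgroup (Subgroup.center P)).exists_card_eq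
  have hk0 : k ≠ 0 := by
    rintro rfl
    rw [pow_zero] at hk
    have := Finite.card_le_one_iff_subsingleton.1 hk.le
    exact hz1 (Subsingleton.elim _ _)
  have h2 : r ∣ Nat.card (Subgroup.center P) := by rw [hk]; exact dvd_pow_self r hk0
  obtain ⟨w, hw⟩ := exists_prime_orderOf_dvd_card' r h2
  refine isCyclic_of_commute hr ho (x := ((w : P) : V ≃ₗ[ZMod p] V)) ?_ P ?_
  · rw [← hw, ← Subgroup.orderOf_coe w, ← Subgroup.orderOf_coe (w : P)]
  · intro a ha
    exact (congrArg Subtype.val (Subgroup.mem_center_iff.1 w.2 ⟨a, ha⟩)).symm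

theorem exists_orderOf_eq {r R k : ℕ} (hr : r.Prime) (ho : orderOf (p : ZMod r) = finrank (ZMod p) V)
    (hR : R = r ^ k) (G : Subgroup (V ≃ₗ[ZMod p] V)) (h : R ∣ Nat.card G) : ∃ y ∈ G, orderOf y = R := by
  have hfin := finite_gl (p := p) (V := V)
  haveI := Fact.mk hr
  rw [hR] at h
  obtain ⟨P, hP⟩ := Sylow.exists_subgroup_card_pow_prime r h
  have h1 : IsPGroup r (P.map G.subtype) := (IsPGroup.of_card hP).map _
  have h2 := isCyclic_of_isPGroup hr ho _ h1
  obtain ⟨g, hg⟩ := h2.exists_generator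
  have h3 : orderOf (g : V ≃ₗ[ZMod p] V) = r ^ k := by
    rw [Subgroup.orderOf_coe, orderOf_eq_card_of_forall_mem_zpowers hg,
      Subgroup.card_map_of_injective G.subtype_injective, hP]
  obtain ⟨g', -, hg'⟩ := g.2
  exact ⟨g, by rw [← hg']; exact g'.2, by rw [h3, hR]⟩

/-- An invariant Sylow subgroup. -/
theorem exists_inv_sylow {Γ : Type*} [Group Γ] [Finite Γ] {r t : ℕ} (hr : r.Prime) (ht : t.Prime)
    (N : Subgroup Γ) (hrN : ¬ r ∣ Nat.card N) {y : Γ} (hy : ∃ k, orderOf y = r ^ k)
    (hn : ∀ q ∈ N, y * q * y⁻¹ ∈ N) :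
    ∃ P : Subgroup Γ, P ≤ N ∧ IsPGroup t P ∧ (∀ k, t ^ k ∣ Nat.card N → t ^ k ∣ Nat.card P) ∧
      ∀ q ∈ P, y * q * y⁻¹ ∈ P := by
  haveI := Fact.mk hr
  haveI := Fact.mk ht
  have hyn : Subgroup.zpowers y ≤ Subgroup.normalizer (N : Set Γ) := by
    rw [Subgroup.zpowers_le, Subgroup.mem_normalizer_iff]
    intro q
    constructor
    · exact hn q
    · intro h
      have := inv_pow hn (w := y⁻¹) (Subgroup.inv_mem _ (Subgroup.mem_zpowers y)) _ h
      have e : y⁻¹ * (y * q * y⁻¹) * y⁻¹⁻¹ = q := by group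
      rwa [e] at this
  let φ : Subgroup.zpowers y →* MulAut N := N.normalizerMonoidHom.comp (Subgroup.inclusion hyn)
  letI : MulAction (Subgroup.zpowers y) (Sylow t N) := MulAction.compHom _ φ
  have hE : IsPGroup r (Subgroup.zpowers y) := by
    obtain ⟨k, hk⟩ := hy
    exact IsPGroup.of_card (n := k) (by rw [Nat.card_zpowers, hk])
  have h1 := hE.card_modEq_card_fixedPoints (Sylow t N)
  have h2 : ¬ r ∣ Nat.card (Sylow t N) := by
    intro h
    obtain ⟨P⟩ : Nonempty (Sylow t N) := inferInstance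
    exact hrN (h.trans (P.card_dvd_index.trans P.index_dvd_card))
  have h3 : Nonempty (MulAction.fixedPoints (Subgroup.zpowers y) (Sylow t N)) := by
    by_contra h
    rw [not_nonempty_iff] at h
    have h4 : Nat.card (MulAction.fixedPoints (Subgroup.zpowers y) (Sylow t N)) = 0 := Nat.card_of_isEmpty
    rw [h4] at h1
    exact h2 ((Nat.modEq_zero_iff_dvd).1 h1)
  obtain ⟨P, hP⟩ := h3
  refine ⟨(P : Subgroup N).map N.subtype, ?_, P.isPGroup'.map _, ?_, ?_⟩
  · rintro _ ⟨q, -, rfl⟩; exact q.2
  · intro k hk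
    rw [Subgroup.card_map_of_injective N.subtype_injective]
    exact P.pow_dvd_card_of_pow_dvd_card hk
  · rintro _ ⟨q, hq, rfl⟩
    have h4 := hP ⟨y, Subgroup.mem_zpowers y⟩
    have h5 : φ ⟨y, Subgroup.mem_zpowers y⟩ • P = P := h4
    have h6 : φ ⟨y, Subgroup.mem_zpowers y⟩ q ∈ (φ ⟨y, Subgroup.mem_zpowers y⟩ • P : Sylow t N) :=
      ⟨q, hq, rfl⟩
    rw [h5] at h6
    exact ⟨_, h6, rfl⟩

/-- **`x` centralises every subgroup of order prime to `r` normalised by `y`.** -/
theorem centralizes_of_not_dvd {r R : ℕ} (hL : Ppd p (finrank (ZMod p) V) r R) {x y : V ≃ₗ[ZMod p] V}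
    (hy : orderOf y = R) (hxy : x ∈ Subgroup.zpowers y) (hx : orderOf x = r)
    (N : Subgroup (V ≃ₗ[ZMod p] V)) (hrN : ¬ r ∣ Nat.card N) (hn : ∀ q ∈ N, y * q * y⁻¹ ∈ N) :
    ∀ q ∈ N, x * q = q * x := by
  classical
  have hfin := finite_gl (p := p) (V := V)
  have hr := hL.prime
  have hyk : ∃ k, orderOf y = r ^ k := by
    obtain ⟨k, -, hk⟩ := hL.pow
    exact ⟨k, by rw [hy, hk]⟩
  -- `p` does not divide `|N|`
  have hpN : ¬ p ∣ Nat.card N := by
    intro hpN
    obtain ⟨P, hPN, hP, hPk, hPy⟩ := exists_inv_sylow hr hp.out N hrN hyk hn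
    have h1 : p ∣ Nat.card P := by
      have := hPk 1 (by rwa [pow_one])
      rwa [pow_one] at this
    -- fixed vectors
    let W : Submodule (ZMod p) V :=
      { carrier := {v | ∀ g ∈ P, g v = v}
        add_mem' := fun {a b} ha hb g hg => by rw [map_add, ha g hg, hb g hg]
        zero_mem' := fun g _ => map_zero g
        smul_mem' := fun c v hv g hg => by rw [map_smul, hv g hg] }
    have hW : ∀ v, v ∈ W ↔ ∀ g ∈ P, g v = v := fun v => Iff.rfl
    have hWx : ∀ v ∈ W, x v ∈ W := by
      intro v hv g hg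
      have hxP := inv_pow hPy (w := x⁻¹) (Subgroup.inv_mem _ hxy) g hg
      have h2 := hv _ hxP
      have h3 : (x⁻¹ * g * x⁻¹⁻¹) v = x.symm (g (x v)) := rfl
      rw [h3, LinearEquiv.symm_apply_eq] at h2
      exact h2
    rcases irr_of_ppd hr hL.ord hx W hWx with h2 | h2
    · -- a `p`-group has nonzero fixed vectors
      have h3 := hP.card_modEq_card_fixedPoints V
      have h4 : p ∣ Nat.card V := by
        rw [card_space (p := p)]
        have hfinV : FiniteDimensional (ZMod p) V := Module.Finite.of_finite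
        have : 0 < finrank (ZMod p) V := by
          have hnt : Nontrivial V := by
            by_contra h
            rw [not_nontrivial_iff_subsingleton] at h
            have h2 : x = 1 := LinearEquiv.ext fun v => Subsingleton.elim _ _
            rw [h2, orderOf_one] at hx
            exact hr.ne_one hx.symm
          exact finrank_pos
        exact dvd_pow_self p this.ne'
      have h5 : p ∣ Nat.card (MulAction.fixedPoints P V) :=
        (Nat.modEq_zero_iff_dvd).1 (h3.symm.trans ((Nat.modEq_zero_iff_dvd).2 h4))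
      have h6 : Nat.card (MulAction.fixedPoints P V) = 1 := by
        rw [Nat.card_eq_one_iff_unique]
        refine ⟨⟨fun a b => ?_⟩, ⟨⟨0, fun g => smul_zero g⟩⟩⟩
        have key : ∀ c : MulAction.fixedPoints P V, (c : V) = 0 := by
          intro c
          have : (c : V) ∈ W := fun g hg => c.2 ⟨g, hg⟩
          rw [h2] at this
          exact (Submodule.mem_bot _).1 this
        exact Subtype.ext ((key a).trans (key b).symm)
      rw [h6] at h5
      exact hp.out.one_lt.ne' (Nat.dvd_one.1 h5)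
    · -- `P = 1`
      have h3 : P = ⊥ := by
        rw [eq_bot_iff]
        intro g hg
        rw [Subgroup.mem_bot]
        ext v
        exact (h2 ▸ Submodule.mem_top : v ∈ W) g hg
      rw [h3, Subgroup.card_bot] at h1
      exact hp.out.one_lt.ne' (Nat.dvd_one.1 h1)
  -- the centraliser of `x` in `N` has the order of `N`
  set C : Subgroup (V ≃ₗ[ZMod p] V) := N ⊓ Subgroup.centralizer {x} with hC
  have hCmem : ∀ q, q ∈ C ↔ q ∈ N ∧ x * q = q * x := by
    intro q
    rw [hC, Subgroup.mem_inf, Subgroup.mem_centralizer_iff]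
    simp
  have h1 : Nat.card N ∣ Nat.card C := by
    rw [Nat.dvd_iff_prime_pow_dvd_dvd]
    intro t k ht htk
    rcases Nat.eq_zero_or_pos k with hk | hk
    · rw [hk, pow_zero]; exact one_dvd _
    have htN : t ∣ Nat.card N := (dvd_pow_self t hk.ne').trans htk
    have htp : t ≠ p := by rintro rfl; exact hpN htN
    have htr : t ≠ r := by rintro rfl; exact hrN htN
    obtain ⟨P, hPN, hP, hPk, hPy⟩ := exists_inv_sylow hr ht N hrN hyk hn
    have h2 := centralizes hL hy hxy hx ht htp htr P hP hPy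
    have h3 : P ≤ C := fun q hq => (hCmem q).2 ⟨hPN hq, h2 q hq⟩
    exact (hPk k htk).trans (Subgroup.card_dvd_of_le h3)
  have h2 : C = N := Subgroup.eq_of_le_of_card_ge inf_le_left (Nat.le_of_dvd Nat.card_pos h1)
  intro q hq
  exact ((hCmem q).1 (by rw [h2]; exact hq)).2

end Cfsg.Agent.H50.Her
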