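import Cfsg.Agent.H50.HerMain
import Cfsg.Agent.H50.HerRel
import Cfsg.Agent.H454.SpExt
import Cfsg.Agent.H168.Rad
import Cfsg.Agent.S0247
import Cfsg.Agent.S1055
import Cfsg.Agent.LieClassical.FieldTransfer

/-!
# Hering's theorem: the outcomes of the rows (helper50)

* `exc_of_type` : `HerType` and `S` not of Lie type in characteristic `p` give `ExcAct`;
* `half_of_nor` : `L` normal in a transitive group.
-/

set_option autoImplicit false
set_option linter.unusedSectionVars false

namespace Cfsg.Agent.H50.Her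

open Cfsg Module

universe u

theorem half_of_nor {p : ℕ} [hp : Fact p.Prime] {V : Type u} [AddCommGroup V] [Module (ZMod p) V] [Finite V]
    {G L : Subgroup (V ≃ₗ[ZMod p] V)} (htr : ∀ v w : V, v ≠ 0 → w ≠ 0 → ∃ g ∈ G, g v = w) (hn : Nor G L) :
    Half L.subtype := by
  intro v w hv hw
  obtain ⟨g, hg, rfl⟩ := htr v w hv hw
  have hg' := G.inv_mem hg
  refine Nat.card_congr ⟨fun x => ⟨⟨g * x.1.1 * g⁻¹, hn g hg _ x.1.2⟩, ?_⟩,
    fun x => ⟨⟨g⁻¹ * x.1.1 * g, ?_⟩, ?_⟩, ?_, ?_⟩
  · have h1 : x.1.1 v = v := x.2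
    change (g * x.1.1 * g⁻¹) (g v) = g v
    change g (x.1.1 (g⁻¹ (g v))) = g v
    rw [show g⁻¹ (g v) = v from g.symm_apply_apply v, h1]
  · have := hn g⁻¹ hg' _ x.1.2
    rwa [inv_inv] at this
  · have h1 : x.1.1 (g v) = g v := x.2
    change g⁻¹ (x.1.1 (g v)) = v
    rw [h1]
    exact g.symm_apply_apply v
  · rintro ⟨⟨x, hx⟩, h1⟩
    apply Subtype.ext
    apply Subtype.ext
    change g⁻¹ * (g * x * g⁻¹) * g = x
    group
  · rintro ⟨⟨x, hx⟩, h1⟩
    apply Subtype.ext
    apply Subtype.ext
    change g * (g⁻¹ * x * g) * g⁻¹ = x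
    group

variable {p d b : ℕ} {L V S : Type u} [Group L] [AddCommGroup V] [Module (ZMod p) V] [Group S] {π : L →* S}
  {ρ : L →* (V ≃ₗ[ZMod p] V)}

theorem Cfg.quot (h : Cfg p d b L V S π ρ) : Nonempty (S ≃* L ⧸ Subgroup.center L) :=
  ⟨((QuotientGroup.quotientMulEquivOfEq h.cent.symm).trans
    (QuotientGroup.quotientKerEquivOfSurjective π h.surj)).symm⟩

/-- a central quotient is transported -/
theorem Cfg.quot_of (h : Cfg p d b L V S π ρ) {X : Type*} [Group X] (e : L ≃* X) :
    Nonempty (S ≃* X ⧸ Subgroup.center X) := by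
  obtain ⟨f⟩ := h.quot
  exact ⟨f.trans (Cfsg.Agent.LieClassical.FieldTransfer.centralQuotientCongr e)⟩

theorem Cfg.sixty (h : Cfg p d b L V S π ρ) : 60 ≤ Nat.card S := by
  have := h.finL
  have : Finite S := Finite.of_surjective π h.surj
  have := h.simple
  refine Cfsg.Agent.H168.NoSolv.sixty_le fun hs => ?_
  obtain ⟨x, y, hxy⟩ := h.noncomm
  exact hxy (IsSimpleGroup.comm_iff_isSolvable.2 hs x y)

theorem Cfg.psl_of (h : Cfg p d b L V S π ρ) {F : Type} [Field F] [Fintype F] [CharP F p] {a : ℕ} (ha : 2 ≤ a)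
    (e : L ≃* Matrix.SpecialLinearGroup (Fin a) F) : IsPSLChar p S := by
  obtain ⟨f⟩ := h.quot_of e
  refine ⟨F, inferInstance, inferInstance, inferInstance, a, ha, fun h2 => ?_, ⟨f⟩⟩
  subst h2
  by_contra hcon
  have h6 := h.sixty
  have := h.finL
  have h1 : Nat.card S ≤ Nat.card (Matrix.SpecialLinearGroup (Fin 2) F) := by
    rw [← Nat.card_congr e.toEquiv]
    exact Nat.card_le_card_of_surjective π h.surj
  have h2 : Nat.card (Matrix.SpecialLinearGroup (Fin 2) F) ≤ Nat.card (GL (Fin 2) F) :=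
    Nat.card_le_card_of_injective (fun A => (A : GL (Fin 2) F)) (by
      intro A B hAB
      apply Subtype.ext
      exact congrArg Units.val hAB)
  rw [Matrix.card_GL_field, Fin.prod_univ_two] at h2
  have h3 : 1 < Fintype.card F := Fintype.one_lt_card
  have h4 : Fintype.card F = 2 ∨ Fintype.card F = 3 := by omega
  rcases h4 with h4 | h4 <;> rw [h4] at h2 <;> norm_num at h2 <;> omega

/-- **The outcomes which are not of Lie type in characteristic `p`.** -/
theorem exc_of_type (h : Cfg p d b L V S π ρ) (hn : ¬ IsLieTypeChar p S) (ht : HerType p d b L) : ExcAct p d b L := by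
  have := Fact.mk h.prime
  rcases ht with ⟨a, c, F, iF, iFf, hac, hbc, hF, ha, hcase⟩ | ht | ht | ht
  · have hchar : CharP F p := charP_of_card_eq_prime_pow hF
    rcases hcase with ⟨⟨e⟩⟩ | ⟨m, hm, hm1, ⟨e⟩⟩ | ⟨ha6, hp2, hF4, ⟨e⟩⟩ | ⟨ha6, hF2, E, iE, iEf, hE, he⟩
    · exact absurd (Or.inl (h.psl_of ha e)) hn
    · exfalso
      rcases Nat.lt_or_ge m 2 with h2 | h2
      · obtain rfl : m = 1 := by omega
        exact hn (Or.inl (h.psl_of le_rfl (e.trans (Cfsg.Agent.H454.SpExt.spTwo F))))
      · obtain ⟨f⟩ := h.quot_of e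
        by_cases h22 : m = 2 ∧ Fintype.card F = 2
        · obtain ⟨rfl, hF2⟩ := h22
          obtain ⟨g⟩ := Cfsg.Agent.S0247.result hF2
          let k : L ≃* Equiv.Perm (Fin 6) := e.trans g
          have h3 : ∀ x : L, Equiv.Perm.sign (k x) = 1 := by
            intro x
            have h4 : commutator L ≤ ((Equiv.Perm.sign : Equiv.Perm (Fin 6) →* ℤˣ).comp k.toMonoidHom).ker :=
              Abelianization.commutator_subset_ker _
            rw [h.perf] at h4
            exact h4 (Subgroup.mem_top x)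
          have h5 := h3 (k.symm (Equiv.swap 0 1))
          rw [MulEquiv.apply_symm_apply] at h5
          revert h5
          decide
        · exact hn (Or.inr (Or.inl ⟨F, iF, iFf, hchar, m, h2, fun hm2 => by
            have h3 : 1 < Fintype.card F := Fintype.one_lt_card
            by_contra hcon
            exact h22 ⟨hm2, by omega⟩, ⟨f⟩⟩))
    · exfalso
      obtain ⟨f⟩ := h.quot_of e
      have hex : ∃ a : F, a ≠ 0 ∧ a ≠ 1 := by
        classical
        by_contra hcon
        push Not at hcon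
        have h3 : Fintype.card F ≤ 2 := by
          have h4 : (Finset.univ : Finset F) ⊆ {0, 1} := by
            intro x _
            rw [Finset.mem_insert, Finset.mem_singleton]
            by_cases hx : x = 0
            · exact Or.inl hx
            · exact Or.inr (hcon x hx)
          calc Fintype.card F = (Finset.univ : Finset F).card := Finset.card_univ.symm
            _ ≤ ({0, 1} : Finset F).card := Finset.card_le_card h4
            _ ≤ 2 := Finset.card_le_two
        omega
      obtain ⟨hsim, hnc⟩ := Cfsg.Agent.S1055.result hex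
      have hc : Subgroup.center ↥(Cfsg.Lie.chevG2.group F) = ⊥ := by
        rcases hsim.eq_bot_or_eq_top_of_normal (Subgroup.center ↥(Cfsg.Lie.chevG2.group F)) inferInstance with h3 | h3
        · exact h3
        · exfalso
          apply hnc
          exact ⟨⟨fun x y => (Subgroup.mem_center_iff.1 (by rw [h3]; trivial : y ∈ _)) x⟩⟩
      refine hn (Or.inr (Or.inr (Or.inr (Or.inr (Or.inr (Or.inr (Or.inl ⟨F, iF, iFf, hchar, Or.inl ⟨by omega,
        ⟨f.trans ((QuotientGroup.quotientMulEquivOfEq hc).trans QuotientGroup.quotientBot)⟩⟩⟩)))))))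
    · right; right; right
      have hpc : p = 2 ∧ c = 1 := by
        rw [hF2] at hF
        have h3 : p ∣ 2 := by
          have hc0 : c ≠ 0 := by rintro rfl; rw [pow_zero] at hF; omega
          rw [hF]; exact dvd_pow_self p hc0
        have h4 := (Nat.prime_dvd_prime_iff_eq h.prime Nat.prime_two).1 h3
        subst h4
        refine ⟨rfl, ?_⟩
        have : 2 ^ 1 = 2 ^ c := by rw [pow_one]; exact hF
        exact (Nat.pow_right_injective le_rfl this).symm
      obtain ⟨rfl, rfl⟩ := hpc
      exact ⟨rfl, by omega, Nat.dvd_one.1 hbc, E, iE, iEf, hE, he⟩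
  · exact Or.inl ht
  · exact Or.inr (Or.inl ht)
  · exact Or.inr (Or.inr (Or.inl ht))

end Cfsg.Agent.H50.Her
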