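import Cfsg.Agent.H50.HerFam
import Cfsg.Agent.H50.HerType
import Cfsg.Agent.H746.SemiOut
import Cfsg.Agent.H609.ClassTwoOut
import Cfsg.Agent.H484.HerQuasi
import Cfsg.Agent.H594.HerDimTwo
import Cfsg.Agent.H219.HerSmallTop
import Cfsg.Agent.H658.TwoSix
import Cfsg.Agent.H659.HerAlt
import Cfsg.Agent.H60.HerSpor
import Cfsg.Agent.H344.HerPsl2
import Cfsg.Agent.H594.HerPsl
import Cfsg.Agent.H82.HerPSp
import Cfsg.Agent.H211.Her.PSU
import Cfsg.Agent.H124.Her.CrossOrth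
import Cfsg.Agent.H347.Her.Chev
import Cfsg.Agent.H352.HerTw
import Cfsg.Agent.H868.HerSporExc
import Cfsg.Agent.H874.HerAltExc
import Cfsg.Agent.OddHalf.Known
import Cfsg.Agent.H667.HerFin

/-!
# Hering's theorem: the main theorem from the list of the simple groups (helper50)
-/

set_option autoImplicit false
set_option linter.unusedSectionVars false

namespace Cfsg.Agent.H50.Her

open Cfsg Module

universe u

section five

open Cfsg.Agent.OrdDiv Cfsg.Agent.H219.HerSmall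

/-- degree 4 over `ZMod 3` : 5 divides `|S|` -/
theorem five_dvd {b : ℕ} {L V S : Type u} [Group L] [AddCommGroup V] [Module (ZMod 3) V] [Group S] {π : L →* S}
    {ρ : L →* (V ≃ₗ[ZMod 3] V)} (h : Cfg 3 4 b L V S π ρ) (hS : IsKnownSimple' S) (hn : ¬ IsLieTypeChar 3 S) :
    5 ∣ Nat.card S := by
  by_contra h5
  have := h.finL
  have := h.finV
  have h1 := card_S_dvd h
  have h2 := card_L_dvd h
  have h3 : ∏ i : Fin 4, (3 ^ 4 - 3 ^ (i : ℕ)) = 2 ^ 9 * 3 ^ 6 * 5 * 13 := by decide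
  rw [h3] at h2
  obtain ⟨g, hg, hr⟩ := exists_real_filter table hS (not_comm h) (l := [(2, 9), (3, 6), (5, 1), (13, 1)])
    (by decide +kernel) (h1.trans h2) (fun n => n % 5 != 0) (by
      simp only [bne_iff_ne, ne_eq]
      intro h4
      exact h5 (Nat.dvd_of_mod_eq_zero h4))
  have hc : (cands [(2, 9), (3, 6), (5, 1), (13, 1)] (2 ^ 9 * 3 ^ 6 * 5 * 13)).filter
      (fun g => (fun n => n % 5 != 0) (ordN g)) = [.psl 3 3] := by decide +kernel
  rw [hc] at hg
  simp only [List.mem_cons, List.not_mem_nil, or_false] at hg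
  subst hg
  exact hn (lie_real (k := 1) Nat.prime_three hr (by norm_num) (by omega))

end five

variable {p : ℕ} [hp : Fact p.Prime] {V : Type u} [AddCommGroup V] [Module (ZMod p) V] [Finite V] [Nontrivial V]
  {G A L : Subgroup (V ≃ₗ[ZMod p] V)}

/-- the rows of the groups which are not of Lie type in the characteristic of `V` -/
theorem type_of_not_lie (htr : ∀ v w : V, v ≠ 0 → w ≠ 0 → ∃ g ∈ G, g v = w) (hA : MaxAb G A) (hL : Perf G A L)
    (hq : Quasi A L) {b : ℕ} (h : Cfg p (finrank (ZMod p) V) b L V (L ⧸ Subgroup.center L)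
      (QuotientGroup.mk' (Subgroup.center L)) L.subtype) (hK : IsKnownSimple' (L ⧸ Subgroup.center L))
    (hn : ¬ IsLieTypeChar p (L ⧸ Subgroup.center L)) : HerType p (finrank (ZMod p) V) b L := by
  have hh : Half L.subtype := half_of_nor htr hL.nor
  obtain ⟨d, hd⟩ : ∃ d, finrank (ZMod p) V = d := ⟨_, rfl⟩
  have h0 := h
  rw [hd] at h ⊢
  have hb1 := h.b_pos
  have hb2 := h.b_lt
  by_cases hd2 : d = 2
  · exact Cfsg.Agent.H594.HerDimTwo.row_dim_two h hd2
  have hd3 : 3 ≤ d := by omega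
  by_cases h24 : p = 2 ∧ (d = 4 ∨ d = 6)
  · obtain ⟨hp2, h4 | h6⟩ := h24
    · exact Cfsg.Agent.H219.HerSmall.row_two_four h hh hp2 h4 hK hn
    · exact Cfsg.Agent.H658.TwoSix.row_two_six h hh hp2 h6 hK hn
  by_cases h34 : p = 3 ∧ d = 4
  · obtain ⟨rfl, rfl⟩ := h34
    exact Cfsg.Agent.H219.HerSmall.row_three_four h hh rfl rfl hK hn (five_dvd h hK hn)
  obtain ⟨r, R, hR⟩ := exists_rel hp.out hd3 h24 h34
  have hrp := hR.ppd.prime
  -- `r ∣ |S|`
  have hr : r ∣ Nat.card (L ⧸ Subgroup.center L) := by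
    have h1 : r ∣ Nat.card L := hL.dvd htr (by rw [hd]; exact hR.ppd)
    rw [Cfsg.Agent.H658.HerGen.card_eq h] at h1
    refine (hrp.dvd_mul.1 h1).resolve_left fun h2 => ?_
    have h3 : r ∣ p ^ b - 1 := h2.trans h.card_center
    have := Fact.mk hrp
    have h4 : (p : ZMod r) ^ b = 1 := by
      have h5 : ((p ^ b - 1 : ℕ) : ZMod r) = 0 := (ZMod.natCast_eq_zero_iff _ _).2 h3
      rw [Nat.cast_sub (Nat.one_le_pow _ _ hp.out.pos), Nat.cast_pow, Nat.cast_one, sub_eq_zero] at h5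
      exact h5
    have h5 := orderOf_dvd_of_pow_eq_one h4
    rw [hR.ppd.ord] at h5
    have := Nat.le_of_dvd hb1 h5
    omega
  have hna : ¬ IsMulCommutative (L ⧸ Subgroup.center L) := by
    intro hc
    obtain ⟨x, y, hxy⟩ := h.noncomm
    exact hxy (hc.is_comm.comm x y)
  rcases Cfsg.Agent.OddHalf.Known.classify' hna hK with ha | ha | ha | ha
  · -- alternating
    exfalso
    obtain ⟨c, hc, ⟨e⟩⟩ := ha
    rcases hR with hR | ⟨-, -, hE⟩
    · exact Cfsg.Agent.H659.HerAlt.row_alt h hd3 hR hr hc e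
    · exact Cfsg.Agent.H874.HerAltExc.alt_exc htr hA hL hq (by rw [hd]; exact hE) hc e
  · -- Lie type
    obtain ⟨t, ht, ha⟩ := ha
    by_cases htp : t = p
    · exact absurd (htp ▸ ha) hn
    rcases ha with ha | ha | ha | ha | ha | ha | ha | ha | ha | ha | ha
    · obtain ⟨K, _, _, _, n, hn2, hn4, ⟨e⟩⟩ := ha
      rcases Nat.lt_or_ge n 3 with h3 | h3
      · obtain rfl : n = 2 := by omega
        exact Cfsg.Agent.H344.HerPsl.row_psl2 h hh hd3 hR hr ht htp (hn4 rfl) e hn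
      · exact (Cfsg.Agent.H594.HerPsl.row_psl h hd3 hR hr ht htp h3 e hn).elim
    · obtain ⟨K, _, _, _, m, hm, hm2, ⟨e⟩⟩ := ha
      exact (Cfsg.Agent.H82.HerPSp.row_psp h hd3 hR hr ht htp hm hm2 e hn).elim
    · obtain ⟨K, _, _, _, n, q, hK', hn3, hnq, ⟨e⟩⟩ := ha
      exact (Cfsg.Agent.H211.Her.PSU.row_psu h hd3 hR hr ht htp hK' hn3 hnq e hn).elim
    · obtain ⟨K, _, _, _, m, hm, ho, ⟨e⟩⟩ := ha
      exact (Cfsg.Agent.H124.Her.row_po_odd h hd3 hR hr ht htp hm ho e hn).elim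
    · obtain ⟨K, _, _, _, m, hm, ⟨e⟩⟩ := ha
      exact (Cfsg.Agent.H124.Her.row_po_plus h hd3 hR hr ht htp hm e hn).elim
    · obtain ⟨K, _, _, _, m, x, y, hm, hxy, ⟨e⟩⟩ := ha
      exact (Cfsg.Agent.H124.Her.row_po_minus h hd3 hR hr ht htp hm hxy e hn).elim
    · exact (Cfsg.Agent.H347.Her.Chev.row_chev h hd3 hR hr ht htp ha hn).elim
    · exact (Cfsg.Agent.H352.HerTw.row_tw h hd3 hR hr ht htp (Or.inl ha) hn).elim
    · exact (Cfsg.Agent.H352.HerTw.row_tw h hd3 hR hr ht htp (Or.inr (Or.inl ha)) hn).elim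
    · exact (Cfsg.Agent.H352.HerTw.row_tw h hd3 hR hr ht htp (Or.inr (Or.inr (Or.inl ha))) hn).elim
    · exact (Cfsg.Agent.H352.HerTw.row_tw h hd3 hR hr ht htp (Or.inr (Or.inr (Or.inr ha))) hn).elim
  · -- Tits
    exfalso
    rcases hR with hR | ⟨hr', -, hE⟩
    · exact Cfsg.Agent.H60.HerSpor.row_spor h hd3 hR hr (Or.inr ha)
    · exact Cfsg.Agent.H868.HerSporExc.spor_exc h hh hE (hr' ▸ hr) (Or.inr ha)
  · -- sporadic
    exfalso
    rcases hR with hR | ⟨hr', -, hE⟩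
    · exact Cfsg.Agent.H60.HerSpor.row_spor h hd3 hR hr (Or.inl ha)
    · exact Cfsg.Agent.H868.HerSporExc.spor_exc h hh hE (hr' ▸ hr) (Or.inl ha)

/-- `L` is quasisimple -/
theorem Perf.quasi' (htr : ∀ v w : V, v ≠ 0 → w ≠ 0 → ∃ g ∈ G, g v = w) (hA : MaxAb G A) (hL : Perf G A L) :
    Quasi A L := by
  by_cases hd : finrank (ZMod p) V = 2 ∨ (p = 3 ∧ finrank (ZMod p) V = 4) ∨ (p = 2 ∧ finrank (ZMod p) V = 6)
  · exact Cfsg.Agent.H484.Her.quasi_of_dim htr hA hL hd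
  by_cases h24 : p = 2 ∧ finrank (ZMod p) V = 4
  · obtain ⟨rfl, h4⟩ := h24
    have h5 := ppd_two (d := 4) (Or.inl rfl)
    exact hL.quasi htr (r := 5) (R := 5) (by rw [h4]; exact h5)
  have h1 : 3 ≤ finrank (ZMod p) V := by
    by_contra hcon
    have h2 : 0 < finrank (ZMod p) V := Module.finrank_pos
    have h3 : finrank (ZMod p) V = 1 := by omega
    apply hL.not_com
    intro a _ b _
    obtain ⟨v₀, hv₀⟩ := exists_ne (0 : V)
    have hgen := (finrank_eq_one_iff_of_nonzero' v₀ hv₀).1 h3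
    ext v
    obtain ⟨k, rfl⟩ := hgen v
    obtain ⟨ka, hka⟩ := hgen (a v₀)
    obtain ⟨kb, hkb⟩ := hgen (b v₀)
    change a (b (k • v₀)) = b (a (k • v₀))
    rw [map_smul, map_smul, map_smul, map_smul, ← hka, ← hkb, map_smul, map_smul, ← hka, ← hkb, smul_comm ka kb]
  obtain ⟨r, R, hR⟩ := exists_rel hp.out h1 (by omega) (by omega)
  exact hL.quasi htr hR.ppd

/-- **The main theorem, from the list of the finite simple groups.** -/
theorem main_of_known (hK : ∀ (X : Type u) [Group X] [Finite X] [IsSimpleGroup X], IsKnownSimple' X) :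
    Cfsg.Agent.H667.HerFin.Main.{u} := by
  intro p hp V _ _ _ _ G A₀ htr hle hnor hcom
  obtain ⟨A, hA0, hA⟩ := exists_maxAb hle hnor hcom
  refine ⟨A, hA0, hA, ?_⟩
  by_cases hne : G ⊓ Subgroup.centralizer (A : Set (V ≃ₗ[ZMod p] V)) = A
  · exact Or.inl (Cfsg.Agent.H746.Her.semi_out htr hA hne)
  right
  rcases reduce htr hA hne with ⟨ℓ, B, hB⟩ | ⟨L, hL⟩
  · exact Or.inl (Cfsg.Agent.H609.classTwo_out htr hA hB)
  right
  have hq := hL.quasi' htr hA
  obtain ⟨b, hb1, hb2, h⟩ := hL.exists_cfg htr hq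
  refine ⟨L, b, hL, hq, hb2, hb1, ?_⟩
  have hsim := h.simple
  have hknown := hK (L ⧸ Subgroup.center L)
  by_cases hlie : IsLieTypeChar p (L ⧸ Subgroup.center L)
  · left
    have hdc : DC L := by
      refine ⟨fun W hW => h.irr W fun g x hx => hW g.1 g.2 x hx, h.perf, hsim, ?_, half_of_nor htr hL.nor⟩
      have h1 := h.card_center
      refine Nat.Coprime.coprime_dvd_left h1 ?_
      have h2 : 1 ≤ p ^ b := Nat.one_le_pow _ _ hp.out.pos
      rw [Nat.coprime_comm, Nat.Prime.coprime_iff_not_dvd hp.out]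
      intro h3
      have h4 : p ∣ p ^ b := dvd_pow_self p h.b_pos.ne'
      have h5 := (Nat.dvd_sub h4 h3)
      rw [Nat.sub_sub_self h2] at h5
      exact hp.out.one_lt.ne' (Nat.dvd_one.1 h5)
    exact hdc.main hlie
  · right
    exact exc_of_type h hlie (type_of_not_lie htr hA hL hq h hknown hlie)

end Cfsg.Agent.H50.Her
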